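/-
Four-transitive groups with a four-point stabiliser of odd order (M. Hall): basic tools.

* `pS`, `Lab`, `Hyp`     : pointwise stabiliser of four points, labelled action on four points
* `invol_conj`, `pair_lift`, `pair_conj` : involutions lifting involutions, odd kernel
* `Syl`, `syl_conj`, `syl_frattini`, `syl_invariant` : Sylow subgroups as subgroups
-/
import Cfsg.Agent.EqLemmas
import Cfsg.Agent.Lib.Coprime.Invariant

set_option autoImplicit false
set_option linter.unusedSectionVars false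

open Equiv MulAction

namespace Cfsg.Agent.OddFour

section Generic

variable {M : Type*} [Group M] [Finite M]

theorem pow_card_eq_one_of_mem {K : Subgroup M} {x : M} (hx : x ∈ K) : x ^ Nat.card K = 1 :=
  orderOf_dvd_iff_pow_eq_one.mp (Subgroup.orderOf_dvd_natCard K hx)

/-- Two involutions congruent modulo a subgroup of odd order are conjugate under it, by an element
commuting with everything that commutes with both. -/
theorem invol_conj {K : Subgroup M} (hK : Odd (Nat.card K)) {a a' : M} (ha : a * a = 1)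
    (ha' : a' * a' = 1) (h : a * a' ∈ K) :
    ∃ k ∈ K, k * a * k⁻¹ = a' ∧ ∀ w, Commute w a → Commute w a' → Commute w k := by
  obtain ⟨m, hm⟩ := hK
  have hpow := pow_card_eq_one_of_mem h
  rw [hm, pow_succ] at hpow
  have hai : a⁻¹ = a := inv_eq_of_mul_eq_one_right ha
  have ha'i : a'⁻¹ = a' := inv_eq_of_mul_eq_one_right ha'
  have hinv : a * (a * a') * a⁻¹ = (a * a')⁻¹ := by
    rw [← mul_assoc a, ha, one_mul, mul_inv_rev, ha'i]
  refine ⟨(a * a') ^ m, pow_mem h m, ?_, fun w hw hw' => (hw.mul_right hw').pow_right m⟩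
  have hk : a * (a * a') ^ m * a⁻¹ = ((a * a') ^ m)⁻¹ := by
    rw [← inv_pow, ← hinv, conj_pow]
  rw [← hk, hai, mul_assoc ((a * a') ^ m), ← mul_assoc a, ← mul_assoc a, ha, one_mul, ← mul_assoc,
    ← pow_add, ← two_mul, eq_inv_of_mul_eq_one_left hpow, mul_inv_rev, ha'i, hai, mul_assoc, ha,
    mul_one]

end Generic

variable {α : Type*}

/-- The pointwise stabiliser of four points. -/
def pS (G : Subgroup (Perm α)) (f : Fin 4 ↪ α) : Subgroup (Perm α) where
  carrier := {g | g ∈ G ∧ ∀ i, g (f i) = f i}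
  one_mem' := ⟨G.one_mem, fun _ => rfl⟩
  mul_mem' {g h} hg hh := ⟨G.mul_mem hg.1 hh.1, fun i => by rw [Perm.mul_apply, hh.2, hg.2]⟩
  inv_mem' {g} hg := ⟨G.inv_mem hg.1, fun i => by rw [Perm.inv_eq_iff_eq, hg.2]⟩

theorem mem_pS {G : Subgroup (Perm α)} {f : Fin 4 ↪ α} {g : Perm α} :
    g ∈ pS G f ↔ g ∈ G ∧ ∀ i, g (f i) = f i := Iff.rfl

theorem pS_le {G : Subgroup (Perm α)} {f : Fin 4 ↪ α} : pS G f ≤ G := fun _ h => h.1

/-- `g` induces `σ` on the labelled points `f i`. -/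
def Lab {ι : Type*} (f : ι → α) (g : Perm α) (σ : Perm ι) : Prop := ∀ i, g (f i) = f (σ i)

section Lab

variable {ι : Type*} {f : ι → α} {g h : Perm α} {σ τ : Perm ι}

theorem lab_one : Lab f (1 : Perm α) (1 : Perm ι) := fun _ => rfl

theorem Lab.mul (hg : Lab f g σ) (hh : Lab f h τ) : Lab f (g * h) (σ * τ) := fun i => by
  rw [Perm.mul_apply, hh i, hg, Perm.mul_apply]

theorem Lab.inv (hg : Lab f g σ) : Lab f g⁻¹ σ⁻¹ := fun i => by
  rw [Perm.inv_eq_iff_eq, hg]; simp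

theorem Lab.pow (hg : Lab f g σ) : ∀ n : ℕ, Lab f (g ^ n) (σ ^ n)
  | 0 => lab_one
  | n + 1 => by rw [pow_succ, pow_succ]; exact (Lab.pow hg n).mul hg

theorem Lab.conj (hh : Lab f h τ) (hg : Lab f g σ) : Lab f (h * g * h⁻¹) (τ * σ * τ⁻¹) :=
  (hh.mul hg).mul hh.inv

end Lab

theorem mem_pS_of_lab {G : Subgroup (Perm α)} {f : Fin 4 ↪ α} {g : Perm α} (hg : g ∈ G)
    (h : Lab f g (1 : Perm (Fin 4))) : g ∈ pS G f := ⟨hg, h⟩

theorem lab_of_mem_pS {G : Subgroup (Perm α)} {f : Fin 4 ↪ α} {g : Perm α} (hg : g ∈ pS G f) :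
    Lab f g (1 : Perm (Fin 4)) := hg.2

variable [Fintype α] [DecidableEq α]

/-- Four-transitive with four-point stabilisers of odd order. -/
structure Hyp (G : Subgroup (Perm α)) : Prop where
  trans : ∀ f f' : Fin 4 ↪ α, ∃ g ∈ G, ∀ i, g (f i) = f' i
  odd : ∀ f : Fin 4 ↪ α, Odd (Nat.card (pS G f))

variable {G : Subgroup (Perm α)}

theorem pS_map_conj {f f' : Fin 4 ↪ α} {g : Perm α} (hg : g ∈ G) (hgf : ∀ i, g (f i) = f' i) :
    (pS G f).map (MulAut.conj g).toMonoidHom = pS G f' := by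
  ext x
  rw [Subgroup.mem_map]
  constructor
  · rintro ⟨y, hy, rfl⟩
    refine ⟨G.mul_mem (G.mul_mem hg hy.1) (G.inv_mem hg), fun i => ?_⟩
    show (g * y * g⁻¹) (f' i) = f' i
    rw [← hgf i, Perm.mul_apply, Perm.mul_apply, Perm.inv_eq_iff_eq.mpr rfl, hy.2]
  · rintro ⟨hx, hxf⟩
    refine ⟨g⁻¹ * x * g, ⟨G.mul_mem (G.mul_mem (G.inv_mem hg) hx) hg, fun i => ?_⟩, ?_⟩
    · rw [Perm.mul_apply, Perm.mul_apply, hgf, hxf, Perm.inv_eq_iff_eq, hgf]
    · show g * (g⁻¹ * x * g) * g⁻¹ = x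
      group

theorem card_pS_eq (hG : Hyp G) (f f' : Fin 4 ↪ α) : Nat.card (pS G f) = Nat.card (pS G f') := by
  obtain ⟨g, hg, hgf⟩ := hG.trans f f'
  rw [← pS_map_conj hg hgf, Subgroup.card_map_of_injective (MulEquiv.injective _)]

/-- Two commuting involutions of four points lift to commuting involutions. -/
theorem pair_lift (hG : Hyp G) (f : Fin 4 ↪ α) {D : Subgroup (Perm α)} (hD : D ≤ G) {x y : Perm α}
    (hx : x ∈ D) (hy : y ∈ D) {s t : Perm (Fin 4)} (hxs : Lab f x s) (hyt : Lab f y t)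
    (hs : s * s = 1) (ht : t * t = 1) (hst : s * t = t * s) :
    ∃ a ∈ D, ∃ b ∈ D, a * a = 1 ∧ b * b = 1 ∧ a * b = b * a ∧ Lab f a s ∧ Lab f b t := by
  set K := pS G f ⊓ D with hKdef
  have hKodd : Odd (Nat.card K) :=
    (hG.odd f).of_dvd_nat (Subgroup.card_dvd_of_le inf_le_left)
  obtain ⟨m, hm⟩ := id hKodd
  have invol : ∀ {z : Perm α} {r : Perm (Fin 4)}, z ∈ D → Lab f z r → r * r = 1 →
      z ^ Nat.card K * z ^ Nat.card K = 1 ∧ Lab f (z ^ Nat.card K) r := by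
    intro z r hz hzr hr
    refine ⟨?_, ?_⟩
    · rw [← (Commute.refl z).mul_pow]
      exact pow_card_eq_one_of_mem
        (show z * z ∈ K from ⟨mem_pS_of_lab (hD (mul_mem hz hz)) (hr ▸ hzr.mul hzr), mul_mem hz hz⟩)
    · have h := hzr.pow (Nat.card K)
      rwa [show r ^ Nat.card K = r by rw [hm, pow_succ, pow_mul, sq, hr, one_pow, one_mul]] at h
  obtain ⟨ha2, hal⟩ := invol hx hxs hs
  set a := x ^ Nat.card K with hadef
  have haD : a ∈ D := pow_mem hx _
  have hya2 : (y * a * y⁻¹) * (y * a * y⁻¹) = 1 := by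
    rw [conj_mul, ha2, mul_one, mul_inv_cancel]
  have hyal : Lab f (y * a * y⁻¹) s := by
    have h := hyt.conj hal
    rwa [← hst, mul_inv_cancel_right] at h
  obtain ⟨k, hk, hka, -⟩ := invol_conj hKodd ha2 hya2
    ⟨mem_pS_of_lab (hD (mul_mem haD (mul_mem (mul_mem hy haD) (D.inv_mem hy))))
      (hs ▸ hal.mul hyal), mul_mem haD (mul_mem (mul_mem hy haD) (D.inv_mem hy))⟩
  have hy'D : k⁻¹ * y ∈ D := mul_mem (inv_mem hk.2) hy
  have hy'l : Lab f (k⁻¹ * y) t := by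
    have h := (lab_of_mem_pS hk.1).inv.mul hyt
    rwa [inv_one, one_mul] at h
  have hcomm : Commute (k⁻¹ * y) a := by
    show k⁻¹ * y * a = a * (k⁻¹ * y)
    have : y * a = k * a * k⁻¹ * y := by rw [hka, inv_mul_cancel_right]
    rw [mul_assoc k⁻¹, this]
    group
  obtain ⟨hb2, hbl⟩ := invol hy'D hy'l ht
  exact ⟨a, haD, _, pow_mem hy'D _, ha2, hb2, ((hcomm.pow_left _).eq).symm, hal, hbl⟩

/-- Pairs of commuting involutions with the same action on four points are conjugate under the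
stabiliser. -/
theorem pair_conj (hG : Hyp G) (f : Fin 4 ↪ α) {D : Subgroup (Perm α)} (hD : D ≤ G)
    {a b a' b' : Perm α} (ha : a ∈ D) (hb : b ∈ D) (ha' : a' ∈ D) (hb' : b' ∈ D)
    (ha2 : a * a = 1) (hb2 : b * b = 1) (hab : a * b = b * a)
    (ha2' : a' * a' = 1) (hb2' : b' * b' = 1) (hab' : a' * b' = b' * a')
    {s t : Perm (Fin 4)} (hs : Lab f a s) (hs' : Lab f a' s) (ht : Lab f b t) (ht' : Lab f b' t) :
    ∃ k ∈ pS G f, k ∈ D ∧ k * a * k⁻¹ = a' ∧ k * b * k⁻¹ = b' := by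
  set K := pS G f ⊓ D with hKdef
  have hKodd : Odd (Nat.card K) :=
    (hG.odd f).of_dvd_nat (Subgroup.card_dvd_of_le inf_le_left)
  have hsq : ∀ {z : Perm α} {r : Perm (Fin 4)}, Lab f z r → z * z = 1 → r * r = 1 :=
    fun {z r} hz hz2 => Equiv.ext fun i => f.injective (by
      rw [← (hz.mul hz) i, hz2]; rfl)
  have hmemK : ∀ {z z' : Perm α} {r : Perm (Fin 4)}, z ∈ D → z' ∈ D → Lab f z r → Lab f z' r →
      z * z = 1 → z * z' ∈ K := fun {z z' r} hz hz' hl hl' hz2 =>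
    ⟨mem_pS_of_lab (hD (mul_mem hz hz')) (hsq hl hz2 ▸ hl.mul hl'), mul_mem hz hz'⟩
  obtain ⟨k₁, hk₁, hk₁a, -⟩ := invol_conj hKodd ha2 ha2' (hmemK ha ha' hs hs' ha2)
  have hb₁2 : (k₁ * b * k₁⁻¹) * (k₁ * b * k₁⁻¹) = 1 := by
    rw [conj_mul, hb2, mul_one, mul_inv_cancel]
  have hb₁D : k₁ * b * k₁⁻¹ ∈ D := mul_mem (mul_mem hk₁.2 hb) (inv_mem hk₁.2)
  have hb₁l : Lab f (k₁ * b * k₁⁻¹) t := by
    have h := (lab_of_mem_pS hk₁.1).conj ht
    rwa [one_mul, inv_one, mul_one] at h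
  obtain ⟨k₂, hk₂, hk₂b, hk₂c⟩ := invol_conj hKodd hb₁2 hb2' (hmemK hb₁D hb' hb₁l ht' hb₁2)
  have hc : Commute a' k₂ := hk₂c a'
    (by rw [← hk₁a]; show k₁ * a * k₁⁻¹ * (k₁ * b * k₁⁻¹) = k₁ * b * k₁⁻¹ * (k₁ * a * k₁⁻¹)
        rw [conj_mul, conj_mul, hab])
    hab'
  refine ⟨k₂ * k₁, mul_mem hk₂.1 hk₁.1, mul_mem hk₂.2 hk₁.2, ?_, ?_⟩
  · rw [show k₂ * k₁ * a * (k₂ * k₁)⁻¹ = k₂ * (k₁ * a * k₁⁻¹) * k₂⁻¹ by group, hk₁a, ← hc.eq,
      mul_inv_cancel_right]
  · rw [show k₂ * k₁ * b * (k₂ * k₁)⁻¹ = k₂ * (k₁ * b * k₁⁻¹) * k₂⁻¹ by group, hk₂b]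

/-- The subgroup `{1, a, b, a * b}` of two commuting involutions. -/
def four (a b : Perm α) (ha : a * a = 1) (hb : b * b = 1) (hab : a * b = b * a) :
    Subgroup (Perm α) where
  carrier := {g | g = 1 ∨ g = a ∨ g = b ∨ g = a * b}
  one_mem' := Or.inl rfl
  mul_mem' {g h} hg hh := by
    have e1 : a * (a * b) = b := by rw [← mul_assoc, ha, one_mul]
    have e2 : b * (a * b) = a := by rw [hab, ← mul_assoc, hb, one_mul]
    have e3 : a * b * a = b := by rw [hab, mul_assoc, ha, mul_one]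
    have e4 : a * b * b = a := by rw [mul_assoc, hb, mul_one]
    have e5 : a * b * (a * b) = 1 := by rw [← mul_assoc, e3, hb]
    simp only [Set.mem_ofPred_eq] at hg hh ⊢
    rcases hg with rfl | rfl | rfl | rfl <;> rcases hh with rfl | rfl | rfl | rfl <;>
      simp [ha, hb, e1, e2, e3, e4, e5, hab.symm]
  inv_mem' {g} hg := by
    simp only [Set.mem_ofPred_eq] at hg ⊢
    rcases hg with rfl | rfl | rfl | rfl
    · simp
    · exact Or.inr (Or.inl (inv_eq_of_mul_eq_one_right ha))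
    · exact Or.inr (Or.inr (Or.inl (inv_eq_of_mul_eq_one_right hb)))
    · refine Or.inr (Or.inr (Or.inr ?_))
      rw [mul_inv_rev, inv_eq_of_mul_eq_one_right ha, inv_eq_of_mul_eq_one_right hb, hab]

theorem four_isPGroup {a b : Perm α} (ha : a * a = 1) (hb : b * b = 1) (hab : a * b = b * a) :
    IsPGroup 2 (four a b ha hb hab) := fun g => ⟨1, Subtype.ext (by
  rw [pow_one, SubgroupClass.coe_pow, sq]
  rcases g.2 with h | h | h | h <;> rw [h]
  · exact one_mul 1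
  · exact ha
  · exact hb
  · show a * b * (a * b) = 1
    rw [← mul_assoc, hab, mul_assoc b, ha, mul_one, hb])⟩

/-- `P` is a Sylow `p`-subgroup of `K`. -/
def Syl (p : ℕ) (P K : Subgroup (Perm α)) : Prop :=
  P ≤ K ∧ Nat.card P = p ^ (Nat.card K).factorization p

theorem Syl.isPGroup {p : ℕ} [Fact p.Prime] {P K : Subgroup (Perm α)} (h : Syl p P K) :
    IsPGroup p P := IsPGroup.of_card h.2

theorem Syl.map_conj {p : ℕ} {P K : Subgroup (Perm α)} (h : Syl p P K) (g : Perm α) :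
    Syl p (P.map (MulAut.conj g).toMonoidHom) (K.map (MulAut.conj g).toMonoidHom) :=
  ⟨Subgroup.map_mono h.1, by
    rw [Subgroup.card_map_of_injective (MulEquiv.injective _),
      Subgroup.card_map_of_injective (MulEquiv.injective _), h.2]⟩

theorem syl_of_sylow {p : ℕ} [Fact p.Prime] {K : Subgroup (Perm α)} (P : Sylow p K) :
    Syl p ((P : Subgroup K).map K.subtype) K :=
  ⟨Subgroup.map_subtype_le _, by rw [Subgroup.card_subtype]; exact P.card_eq_multiplicity⟩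

theorem Syl.exists_sylow {p : ℕ} [Fact p.Prime] {P K : Subgroup (Perm α)} (h : Syl p P K) :
    ∃ Q : Sylow p K, (Q : Subgroup K).map K.subtype = P :=
  ⟨Sylow.ofCard (P.subgroupOf K)
    (by rw [Nat.card_congr (Subgroup.subgroupOfEquivOfLe h.1).toEquiv]; exact h.2),
    Subgroup.map_subgroupOf_eq_of_le h.1⟩

theorem syl_conj {p : ℕ} [Fact p.Prime] {P P' K : Subgroup (Perm α)} (h : Syl p P K)
    (h' : Syl p P' K) : ∃ k ∈ K, P.map (MulAut.conj k).toMonoidHom = P' := by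
  obtain ⟨Q, rfl⟩ := h.exists_sylow
  obtain ⟨Q', rfl⟩ := h'.exists_sylow
  obtain ⟨k, rfl⟩ := MulAction.exists_smul_eq K Q Q'
  refine ⟨k, k.2, ?_⟩
  rw [Coprime.map_subtype_smul]
  rfl

theorem syl_frattini {p : ℕ} [Fact p.Prime] {P K : Subgroup (Perm α)} (h : Syl p P K) {g : Perm α}
    (hg : K.map (MulAut.conj g).toMonoidHom = K) :
    ∃ k ∈ K, k * g ∈ Subgroup.normalizer (P : Set (Perm α)) := by
  obtain ⟨k, hk, hkP⟩ := syl_conj (hg ▸ h.map_conj g) h
  refine ⟨k, hk, Subgroup.mem_normalizer_iff_map_conj_eq.mpr ?_⟩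
  conv_rhs => rw [← hkP, Subgroup.map_map]
  congr 1

/-- A `2`-group normalising a subgroup of odd order and a `p`-subgroup of it normalises a Sylow
`p`-subgroup containing the latter. -/
theorem syl_invariant {p : ℕ} [Fact p.Prime] {A K U : Subgroup (Perm α)} (hA : IsPGroup 2 A)
    (hK : Odd (Nat.card K)) (hAK : A ≤ Subgroup.normalizer (K : Set (Perm α)))
    (hUK : U ≤ K) (hU : IsPGroup p U) (hUA : A ≤ Subgroup.normalizer (U : Set (Perm α))) :
    ∃ P, Syl p P K ∧ U ≤ P ∧ A ≤ Subgroup.normalizer (P : Set (Perm α)) := by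
  have : Fact (Nat.Prime 2) := ⟨Nat.prime_two⟩
  obtain ⟨n, hn⟩ := IsPGroup.iff_card.mp hA
  have hcop : (Nat.card A).Coprime (Nat.card K) := by
    rw [hn]; exact (Nat.coprime_two_left.mpr hK).pow_left n
  have : Group.IsNilpotent A := hA.isNilpotent
  obtain ⟨P, hUP, hAP⟩ := Coprime.exists_invariant_sylow_ge hAK hcop (Or.inl inferInstance)
    hUK hU hUA
  exact ⟨_, syl_of_sylow P, hUP, hAP⟩

end Cfsg.Agent.OddFour
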