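/-
Four-transitive groups with a four-point stabiliser of odd order: the four-group `{1, a, b, ab}`
with `a = (1 2)(3)(4)…`, `b = (1)(2)(3 4)…`.

* `Pair`, `pair_exists`
* classes `Zs`, `Pa`, `Pb`, `Pc`, `Rf` of points by their stabilisers in the four-group
* `exists_u` : an element permuting the involutions and normalising a Sylow subgroup
* `exists_cen`, `cen_split`, `card_Rf` : the centraliser of the four-group
* `fix_card` : shape of the fixed point set of an invariant Sylow subgroup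
-/
import Cfsg.Agent.Lib.OddFour.Basic

set_option autoImplicit false
set_option linter.unusedSectionVars false

open Equiv MulAction Finset

namespace Cfsg.Agent.OddFour

variable {α : Type*} [Fintype α] [DecidableEq α] {G : Subgroup (Perm α)} {f : Fin 4 ↪ α}
  {a b : Perm α}

/-- A finite set invariant under a fixed-point-free involution has even size. -/
theorem even_card_of_invol {t : Perm α} (ht : t * t = 1) (S : Finset α) (hS : ∀ y ∈ S, t y ∈ S)
    (hfree : ∀ y ∈ S, t y ≠ y) : Even S.card := by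
  induction h : S.card using Nat.strong_induction_on generalizing S with
  | _ n ih =>
    rcases S.eq_empty_or_nonempty with rfl | ⟨y, hy⟩
    · simp [← h]
    have htt : ∀ z, t (t z) = z := fun z => by rw [← Perm.mul_apply, ht, Perm.one_apply]
    have hsub : {y, t y} ⊆ S := by simp [Finset.insert_subset_iff, hy, hS y hy]
    have hc : (S \ {y, t y}).card + 2 = n := by
      rw [← h, Finset.card_sdiff_of_subset hsub, Finset.card_pair (hfree y hy).symm]
      have := Finset.card_le_card hsub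
      rw [Finset.card_pair (hfree y hy).symm] at this
      omega
    have := ih _ (by omega) (S \ {y, t y}) (fun z hz => ?_)
      (fun z hz => hfree z (Finset.mem_sdiff.mp hz).1) rfl
    · exact hc ▸ this.add even_two
    · simp only [Finset.mem_sdiff, Finset.mem_insert, Finset.mem_singleton, not_or] at hz ⊢
      exact ⟨hS z hz.1, fun e => hz.2.2 (by rw [← htt z, e]), fun e => hz.2.1 (t.injective e)⟩

/-- An element of odd order fixes each point of an invariant set of at most two points. -/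
theorem odd_fix_pair {w : Perm α} {N : ℕ} (hN : Odd N) (hw : w ^ N = 1) {S : Finset α}
    (hS : S.card ≤ 2) (hinv : ∀ y ∈ S, w y ∈ S) {y : α} (hy : y ∈ S) : w y = y := by
  by_contra hne
  have hsub : {y, w y} ⊆ S := by simp [Finset.insert_subset_iff, hy, hinv y hy]
  have heq : ({y, w y} : Finset α) = S :=
    Finset.eq_of_subset_of_card_le hsub (by rw [Finset.card_pair (Ne.symm hne)]; exact hS)
  have h2 : w (w y) = y := by
    have := hinv _ (hinv y hy)
    rw [← heq, Finset.mem_insert, Finset.mem_singleton] at this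
    exact this.resolve_right fun e => hne (w.injective e)
  obtain ⟨m, rfl⟩ := hN
  have h1 : (w ^ (2 * m)) (w y) = w y := by
    rw [pow_mul]
    exact Perm.pow_apply_eq_self_of_apply_eq_self (by rw [sq, Perm.mul_apply, h2]) m
  rw [pow_succ] at hw
  have h3 := congrArg (fun g : Perm α => g y) hw
  simp only [Perm.mul_apply, Perm.one_apply] at h3
  exact hne (h1.symm.trans h3)

theorem fix_le_three (hG : Hyp G) {g : Perm α} (hg : g ∈ G) (hg2 : g * g = 1) (hne : g ≠ 1) :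
    (univ.filter fun y => g y = y).card ≤ 3 := by
  by_contra hlt
  obtain ⟨S, hS, hS4⟩ := Finset.exists_subset_card_eq
    (s := univ.filter fun y => g y = y) (n := 4) (by omega)
  let e : Fin 4 ↪ α :=
    ((Finset.equivFinOfCardEq hS4).symm.toEmbedding).trans (Function.Embedding.subtype _)
  have hmem : g ∈ pS G e := ⟨hg, fun i =>
    (Finset.mem_filter.mp (hS ((Finset.equivFinOfCardEq hS4).symm i).2)).2⟩
  have h2 := Subgroup.orderOf_dvd_natCard (pS G e) hmem
  rw [orderOf_eq_prime (p := 2) (by rw [sq, hg2]) hne] at h2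
  exact Nat.not_even_iff_odd.mpr (hG.odd e) (even_iff_two_dvd.mpr h2)

theorem fix_parity {g : Perm α} (hg2 : g * g = 1) :
    (univ.filter fun y => g y = y).card % 2 = Fintype.card α % 2 := by
  have hgg : ∀ z, g (g z) = z := fun z => by rw [← Perm.mul_apply, hg2, Perm.one_apply]
  have h := even_card_of_invol hg2 (univ.filter fun y => ¬ g y = y)
    (fun y hy => by
      simp only [mem_filter, mem_univ, true_and] at hy ⊢
      exact fun e => hy (g.injective e))
    (fun y hy => (mem_filter.mp hy).2)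
  have h2 := Finset.card_filter_add_card_filter_not (s := (univ : Finset α)) fun y => g y = y
  rw [Finset.card_univ] at h2
  obtain ⟨m, hm⟩ := h
  omega

/-- The two involutions. -/
structure Pair (G : Subgroup (Perm α)) (f : Fin 4 ↪ α) (a b : Perm α) : Prop where
  amem : a ∈ G
  bmem : b ∈ G
  a2 : a * a = 1
  b2 : b * b = 1
  comm : a * b = b * a
  la : Lab f a (swap 0 1)
  lb : Lab f b (swap 2 3)

theorem pair_exists (hG : Hyp G) (f : Fin 4 ↪ α) : ∃ a b, Pair G f a b := by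
  obtain ⟨x, hx, hxf⟩ := hG.trans f ((swap (0 : Fin 4) 1).toEmbedding.trans f)
  obtain ⟨y, hy, hyf⟩ := hG.trans f ((swap (2 : Fin 4) 3).toEmbedding.trans f)
  obtain ⟨a, ha, b, hb, h1, h2, h3, h4, h5⟩ := pair_lift hG f le_rfl hx hy
    (s := swap 0 1) (t := swap 2 3) hxf hyf (by decide) (by decide) (by decide)
  exact ⟨a, b, ha, hb, h1, h2, h3, h4, h5⟩

/-- Points fixed by both involutions. -/
def Zs (a b : Perm α) : Finset α := univ.filter fun y => a y = y ∧ b y = y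

/-- Points fixed by `a` only. -/
def Pa (a b : Perm α) : Finset α := univ.filter fun y => a y = y ∧ b y ≠ y

/-- Points fixed by `b` only. -/
def Pb (a b : Perm α) : Finset α := univ.filter fun y => b y = y ∧ a y ≠ y

/-- Points fixed by `a * b` only. -/
def Pc (a b : Perm α) : Finset α := univ.filter fun y => a (b y) = y ∧ a y ≠ y

/-- Points in regular orbits. -/
def Rf (a b : Perm α) : Finset α := univ.filter fun y => a y ≠ y ∧ b y ≠ y ∧ a (b y) ≠ y

theorem mem_Zs {y : α} : y ∈ Zs a b ↔ a y = y ∧ b y = y := by simp [Zs]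
theorem mem_Pa {y : α} : y ∈ Pa a b ↔ a y = y ∧ b y ≠ y := by simp [Pa]
theorem mem_Pb {y : α} : y ∈ Pb a b ↔ b y = y ∧ a y ≠ y := by simp [Pb]
theorem mem_Pc {y : α} : y ∈ Pc a b ↔ a (b y) = y ∧ a y ≠ y := by simp [Pc]
theorem mem_Rf {y : α} : y ∈ Rf a b ↔ a y ≠ y ∧ b y ≠ y ∧ a (b y) ≠ y := by simp [Rf]

theorem card_inter_classes (a b : Perm α) (S : Finset α) :
    S.card = (S ∩ Zs a b).card + (S ∩ Pa a b).card + (S ∩ Pb a b).card + (S ∩ Pc a b).card +
      (S ∩ Rf a b).card := by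
  rw [← Finset.filter_mem_eq_inter, ← Finset.filter_mem_eq_inter, ← Finset.filter_mem_eq_inter,
    ← Finset.filter_mem_eq_inter, ← Finset.filter_mem_eq_inter]
  simp only [mem_Zs, mem_Pa, mem_Pb, mem_Pc, mem_Rf, Finset.card_filter, ← Finset.sum_add_distrib]
  rw [Finset.card_eq_sum_ones]
  refine Finset.sum_congr rfl fun y _ => ?_
  by_cases h1 : a y = y <;> by_cases h2 : b y = y <;> by_cases h3 : a (b y) = y <;> simp_all

namespace Pair

theorem aa (h : Pair G f a b) (y : α) : a (a y) = y := by rw [← Perm.mul_apply, h.a2, Perm.one_apply]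

theorem bb (h : Pair G f a b) (y : α) : b (b y) = y := by rw [← Perm.mul_apply, h.b2, Perm.one_apply]

theorem ab (h : Pair G f a b) (y : α) : a (b y) = b (a y) := by
  rw [← Perm.mul_apply, h.comm, Perm.mul_apply]

theorem c2 (h : Pair G f a b) : (a * b) * (a * b) = 1 := by
  rw [← mul_assoc, h.comm, mul_assoc b, h.a2, mul_one, h.b2]

theorem Zs_Pa (h : Pair G f a b) (hG : Hyp G) :
    (Pa a b).card = 2 ∧ (Pb a b).card = 2 ∧ (Zs a b).card ≤ 1 ∧
      (Zs a b).card = Fintype.card α % 2 ∧ f 0 ∈ Pb a b ∧ f 1 ∈ Pb a b ∧ f 2 ∈ Pa a b ∧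
      f 3 ∈ Pa a b ∧ ((Pc a b).card = 0 ∨ (Pc a b).card = 2) := by
  have hf : ∀ {i j : Fin 4}, i ≠ j → f i ≠ f j := fun hij => f.injective.ne hij
  have a0 : a (f 0) = f 1 := h.la 0
  have a1 : a (f 1) = f 0 := h.la 1
  have a2 : a (f 2) = f 2 := h.la 2
  have a3 : a (f 3) = f 3 := h.la 3
  have b0 : b (f 0) = f 0 := h.lb 0
  have b1 : b (f 1) = f 1 := h.lb 1
  have b2 : b (f 2) = f 3 := h.lb 2
  have b3 : b (f 3) = f 2 := h.lb 3
  have m0 : f 0 ∈ Pb a b := mem_Pb.mpr ⟨b0, a0 ▸ hf (by decide)⟩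
  have m1 : f 1 ∈ Pb a b := mem_Pb.mpr ⟨b1, a1 ▸ hf (by decide)⟩
  have m2 : f 2 ∈ Pa a b := mem_Pa.mpr ⟨a2, b2 ▸ hf (by decide)⟩
  have m3 : f 3 ∈ Pa a b := mem_Pa.mpr ⟨a3, b3 ▸ hf (by decide)⟩
  have hne_a : a ≠ 1 := fun e => hf (show (1 : Fin 4) ≠ 0 by decide) (a0.symm.trans (by rw [e]; rfl))
  have hne_b : b ≠ 1 := fun e => hf (show (3 : Fin 4) ≠ 2 by decide) (b2.symm.trans (by rw [e]; rfl))
  have hc0 : a (b (f 0)) = f 1 := by rw [b0, a0]
  have hne_c : a * b ≠ 1 := fun e => hf (show (1 : Fin 4) ≠ 0 by decide) (hc0.symm.trans (by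
    rw [← Perm.mul_apply, e]; rfl))
  have eqa : (univ.filter fun y => a y = y).card = (Pa a b).card + (Zs a b).card := by
    rw [← Finset.card_union_of_disjoint (Finset.disjoint_left.mpr fun y hy hz =>
      (mem_Pa.mp hy).2 (mem_Zs.mp hz).2)]
    congr 1; ext y; simp only [mem_filter, mem_univ, true_and, mem_union, mem_Pa, mem_Zs]; tauto
  have eqb : (univ.filter fun y => b y = y).card = (Pb a b).card + (Zs a b).card := by
    rw [← Finset.card_union_of_disjoint (Finset.disjoint_left.mpr fun y hy hz =>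
      (mem_Pb.mp hy).2 (mem_Zs.mp hz).1)]
    congr 1; ext y; simp only [mem_filter, mem_univ, true_and, mem_union, mem_Pb, mem_Zs]; tauto
  have eqc : (univ.filter fun y => (a * b) y = y).card = (Pc a b).card + (Zs a b).card := by
    rw [← Finset.card_union_of_disjoint (Finset.disjoint_left.mpr fun y hy hz =>
      (mem_Pc.mp hy).2 (mem_Zs.mp hz).1)]
    congr 1; ext y
    rw [mem_filter, mem_union, mem_Pc, mem_Zs, Perm.mul_apply]
    simp only [mem_univ, true_and]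
    constructor
    · intro hy
      by_cases hay : a y = y
      · exact Or.inr ⟨hay, by have := congrArg a hy; rwa [h.aa, hay] at this⟩
      · exact Or.inl ⟨hy, hay⟩
    · rintro (⟨hy, -⟩ | ⟨hy1, hy2⟩)
      · exact hy
      · rw [hy2, hy1]
  have la3 := fix_le_three hG h.amem h.a2 hne_a
  have lb3 := fix_le_three hG h.bmem h.b2 hne_b
  have lc3 := fix_le_three hG (G.mul_mem h.amem h.bmem) h.c2 hne_c
  have pa := fix_parity h.a2
  rw [eqa] at la3 pa
  rw [eqb] at lb3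
  rw [eqc] at lc3
  have ea : Even (Pa a b).card := even_card_of_invol h.b2 _
    (fun y hy => mem_Pa.mpr ⟨by rw [h.ab, (mem_Pa.mp hy).1],
      fun e => (mem_Pa.mp hy).2 (b.injective e)⟩)
    (fun y hy => (mem_Pa.mp hy).2)
  have eb : Even (Pb a b).card := even_card_of_invol h.a2 _
    (fun y hy => mem_Pb.mpr ⟨by rw [← h.ab, (mem_Pb.mp hy).1],
      fun e => (mem_Pb.mp hy).2 (a.injective e)⟩)
    (fun y hy => (mem_Pb.mp hy).2)
  have ec : Even (Pc a b).card := even_card_of_invol h.a2 _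
    (fun y hy => mem_Pc.mpr ⟨by rw [← h.ab, (mem_Pc.mp hy).1],
      fun e => (mem_Pc.mp hy).2 (a.injective e)⟩)
    (fun y hy => (mem_Pc.mp hy).2)
  have two : ∀ {S : Finset α} {p q : α}, p ∈ S → q ∈ S → p ≠ q → 2 ≤ S.card :=
    fun hp hq hpq => Finset.one_lt_card.mpr ⟨_, hp, _, hq, hpq⟩
  have ta := two m2 m3 (hf (by decide))
  have tb := two m0 m1 (hf (by decide))
  rw [Nat.even_iff] at ea eb ec
  exact ⟨by omega, by omega, by omega, by omega, m0, m1, m2, m3, by omega⟩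

theorem card_Pa (h : Pair G f a b) (hG : Hyp G) : (Pa a b).card = 2 := (h.Zs_Pa hG).1

theorem card_Pb (h : Pair G f a b) (hG : Hyp G) : (Pb a b).card = 2 := (h.Zs_Pa hG).2.1

theorem card_Zs (h : Pair G f a b) (hG : Hyp G) :
    (Zs a b).card = Fintype.card α % 2 := (h.Zs_Pa hG).2.2.2.1

theorem Rf_a (h : Pair G f a b) {y : α} (hy : y ∈ Rf a b) : a y ∈ Rf a b := by
  obtain ⟨h1, h2, h3⟩ := mem_Rf.mp hy
  refine mem_Rf.mpr ⟨fun e => h1 (a.injective e), fun e => h2 ?_, fun e => h3 ?_⟩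
  · rw [← h.ab] at e; exact a.injective e
  · rw [← h.ab] at e; exact a.injective e

theorem Rf_b (h : Pair G f a b) {y : α} (hy : y ∈ Rf a b) : b y ∈ Rf a b := by
  obtain ⟨h1, h2, h3⟩ := mem_Rf.mp hy
  refine mem_Rf.mpr ⟨fun e => h1 ?_, fun e => h2 (b.injective e), fun e => h3 ?_⟩
  · rw [h.ab] at e; exact b.injective e
  · rw [h.ab (b y)] at e; exact b.injective e

/-- The regular orbit of a free point. -/
def orb (h : Pair G f a b) {x : α} (hx : x ∈ Rf a b) : Fin 4 ↪ α :=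
  ⟨![x, a x, b x, a (b x)], by
    obtain ⟨h1, h2, h3⟩ := mem_Rf.mp hx
    have h4 : a x ≠ b x := fun e => h3 (by rw [← e, h.aa])
    have h5 : a x ≠ a (b x) := fun e => h2 (a.injective e).symm
    have h6 : b x ≠ a (b x) := fun e => h1 (by
      rw [h.ab] at e; exact (b.injective e).symm)
    intro i j e
    fin_cases i <;> fin_cases j <;> simp_all [eq_comm]⟩

theorem orb_apply (h : Pair G f a b) {x : α} (hx : x ∈ Rf a b) (i : Fin 4) :
    h.orb hx i = ![x, a x, b x, a (b x)] i := rfl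

theorem la_orb (h : Pair G f a b) {x : α} (hx : x ∈ Rf a b) :
    Lab (h.orb hx) a (swap 0 1 * swap 2 3) := fun i => by
  fin_cases i
  · rfl
  · show a (a x) = x; rw [h.aa]
  · rfl
  · show a (a (b x)) = b x; rw [h.aa]

theorem lb_orb (h : Pair G f a b) {x : α} (hx : x ∈ Rf a b) :
    Lab (h.orb hx) b (swap 0 2 * swap 1 3) := fun i => by
  fin_cases i
  · rfl
  · show b (a x) = a (b x); rw [h.ab]
  · show b (b x) = x; rw [h.bb]
  · show b (a (b x)) = a x; rw [← h.ab, h.bb]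

theorem normalizes_pS {g : Perm α} (hg : g ∈ G) {o : Fin 4 ↪ α} {σ : Perm (Fin 4)}
    (hl : Lab o g σ) : g ∈ Subgroup.normalizer (pS G o : Set (Perm α)) := by
  rw [Subgroup.mem_normalizer_iff_map_conj_eq]
  show (pS G o).map (MulAut.conj g).toMonoidHom = _
  rw [pS_map_conj hg (f' := σ.toEmbedding.trans o) hl]
  ext x
  simp only [mem_pS]
  exact and_congr_right fun _ => ⟨fun hx i => by
    have := hx (σ.symm i)
    simpa using this, fun hx i => hx (σ i)⟩

theorem four_le {A : Subgroup (Perm α)} (h : Pair G f a b) (ha : a ∈ A) (hb : b ∈ A) :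
    four a b h.a2 h.b2 h.comm ≤ A := by
  rintro g (rfl | rfl | rfl | rfl)
  exacts [one_mem _, ha, hb, mul_mem ha hb]

/-- An element `u` cycling `a`, `b`, `a * b` and normalising a Sylow subgroup of the stabiliser of
a regular orbit. -/
theorem exists_u (h : Pair G f a b) (hG : Hyp G) (p : ℕ) [Fact p.Prime] {x : α}
    (hx : x ∈ Rf a b) :
    ∃ P, Syl p P (pS G (h.orb hx)) ∧ ∃ u ∈ G, u ∈ Subgroup.normalizer (P : Set (Perm α)) ∧
      a ∈ Subgroup.normalizer (P : Set (Perm α)) ∧ b ∈ Subgroup.normalizer (P : Set (Perm α)) ∧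
      u * a * u⁻¹ = b ∧ u * b * u⁻¹ = a * b := by
  obtain ⟨P, hP, -, hAP⟩ := syl_invariant (p := p) (four_isPGroup h.a2 h.b2 h.comm)
    (hG.odd (h.orb hx))
    (h.four_le (normalizes_pS h.amem (h.la_orb hx)) (normalizes_pS h.bmem (h.lb_orb hx)))
    (bot_le : ⊥ ≤ pS G (h.orb hx)) (IsPGroup.of_bot) (fun g _ => by
      rw [Subgroup.mem_normalizer_iff_map_conj_eq]
      exact Subgroup.map_bot _)
  have haP : a ∈ Subgroup.normalizer (P : Set (Perm α)) := hAP (Or.inr (Or.inl rfl))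
  have hbP : b ∈ Subgroup.normalizer (P : Set (Perm α)) := hAP (Or.inr (Or.inr (Or.inl rfl)))
  set r : Perm (Fin 4) := swap 1 2 * swap 2 3 with hr
  obtain ⟨x₀, hx₀, hx₀f⟩ := hG.trans (h.orb hx) (r.toEmbedding.trans (h.orb hx))
  obtain ⟨k, hk, hkP⟩ := syl_frattini hP
    (Subgroup.mem_normalizer_iff_map_conj_eq.mp (normalizes_pS hx₀ (σ := r) hx₀f))
  set u₀ := k * x₀
  have hu₀l : Lab (h.orb hx) u₀ r := by
    have := (lab_of_mem_pS hk).mul (show Lab (h.orb hx) x₀ r from hx₀f)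
    rwa [one_mul] at this
  have hu₀ : u₀ ∈ G := G.mul_mem hk.1 hx₀
  set D := G ⊓ Subgroup.normalizer (P : Set (Perm α))
  have hu₀D : u₀ ∈ D := ⟨hu₀, hkP⟩
  have haD : a ∈ D := ⟨h.amem, haP⟩
  have hbD : b ∈ D := ⟨h.bmem, hbP⟩
  have e1 : r * (swap 0 1 * swap 2 3) * r⁻¹ = swap 0 2 * swap 1 3 := by rw [hr]; decide
  have e2 : r * (swap 0 2 * swap 1 3) * r⁻¹ = (swap 0 1 * swap 2 3) * (swap 0 2 * swap 1 3) := by
    rw [hr]; decide
  obtain ⟨k₂, -, hk₂D, hk₂a, hk₂b⟩ := pair_conj hG (h.orb hx) inf_le_left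
    (mul_mem (mul_mem hu₀D haD) (inv_mem hu₀D)) (mul_mem (mul_mem hu₀D hbD) (inv_mem hu₀D))
    hbD (mul_mem haD hbD)
    (by rw [conj_mul, h.a2, mul_one, mul_inv_cancel])
    (by rw [conj_mul, h.b2, mul_one, mul_inv_cancel])
    (by rw [conj_mul, conj_mul, h.comm]) h.b2 h.c2
    (by rw [← mul_assoc, ← h.comm])
    (e1 ▸ hu₀l.conj (h.la_orb hx)) (h.lb_orb hx)
    (e2 ▸ hu₀l.conj (h.lb_orb hx)) ((h.la_orb hx).mul (h.lb_orb hx))
  refine ⟨P, hP, k₂ * u₀, (mul_mem hk₂D hu₀D).1, (mul_mem hk₂D hu₀D).2, haP, hbP, ?_, ?_⟩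
  · rw [← hk₂a]; group
  · rw [← hk₂b]; group

variable {u : Perm α}

theorem u_maps (h : Pair G f a b) (h1 : u * a * u⁻¹ = b) (h2 : u * b * u⁻¹ = a * b) (y : α) :
    b (u y) = u (a y) ∧ a (b (u y)) = u (b y) ∧ a (u y) = u (a (b y)) := by
  have e1 : b * u = u * a := by rw [← h1, inv_mul_cancel_right]
  have e2 : a * b * u = u * b := by rw [← h2, inv_mul_cancel_right]
  have p1 : ∀ z, b (u z) = u (a z) := fun z => congrArg (fun g : Perm α => g z) e1
  have p2 : ∀ z, a (b (u z)) = u (b z) := fun z => congrArg (fun g : Perm α => g z) e2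
  refine ⟨p1 y, p2 y, ?_⟩
  rw [h.ab y, ← p2 (a y), ← p1 y, h.bb]

theorem u_Pa (h : Pair G f a b) (h1 : u * a * u⁻¹ = b) (h2 : u * b * u⁻¹ = a * b) {y : α}
    (hy : y ∈ Pa a b) : u y ∈ Pb a b := by
  obtain ⟨k1, k2, k3⟩ := h.u_maps h1 h2 y
  obtain ⟨m1, m2⟩ := mem_Pa.mp hy
  refine mem_Pb.mpr ⟨by rw [k1, m1], fun e => m2 (u.injective ?_)⟩
  rw [← k2, k1, m1, e]

theorem u_Pb (h : Pair G f a b) (h1 : u * a * u⁻¹ = b) (h2 : u * b * u⁻¹ = a * b) {y : α}
    (hy : y ∈ Pb a b) : u y ∈ Pc a b := by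
  obtain ⟨k1, k2, k3⟩ := h.u_maps h1 h2 y
  obtain ⟨m1, m2⟩ := mem_Pb.mp hy
  refine mem_Pc.mpr ⟨by rw [k2, m1], fun e => m2 (u.injective ?_)⟩
  rw [k3, m1] at e
  exact e

theorem u_Pc (h : Pair G f a b) (h1 : u * a * u⁻¹ = b) (h2 : u * b * u⁻¹ = a * b) {y : α}
    (hy : y ∈ Pc a b) : u y ∈ Pa a b := by
  obtain ⟨k1, k2, k3⟩ := h.u_maps h1 h2 y
  obtain ⟨m1, m2⟩ := mem_Pc.mp hy
  exact mem_Pa.mpr ⟨by rw [k3, m1], fun e => m2 (u.injective (by rw [← k1, e]))⟩

theorem u_Zs (h : Pair G f a b) (h1 : u * a * u⁻¹ = b) (h2 : u * b * u⁻¹ = a * b) {y : α}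
    (hy : y ∈ Zs a b) : u y ∈ Zs a b := by
  obtain ⟨k1, k2, k3⟩ := h.u_maps h1 h2 y
  obtain ⟨m1, m2⟩ := mem_Zs.mp hy
  exact mem_Zs.mpr ⟨by rw [k3, m2, m1], by rw [k1, m1]⟩

theorem card_Pc (h : Pair G f a b) (hG : Hyp G) {x : α} (hx : x ∈ Rf a b) :
    (Pc a b).card = 2 := by
  have : Fact (Nat.Prime 3) := ⟨Nat.prime_three⟩
  obtain ⟨P, -, u, -, -, -, -, h1, h2⟩ := h.exists_u hG 3 hx
  have hle : (Pb a b).card ≤ (Pc a b).card :=
    Finset.card_le_card_of_injOn u (fun y hy => h.u_Pb h1 h2 hy) (u.injective.injOn)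
  have := h.card_Pb hG
  have := (h.Zs_Pa hG).2.2.2.2.2.2.2.2
  omega

/-- Elements commuting with both involutions. -/
def Cen (G : Subgroup (Perm α)) (a b : Perm α) : Subgroup (Perm α) :=
  G ⊓ Subgroup.centralizer ({a, b} : Set (Perm α))

theorem mem_Cen {g : Perm α} : g ∈ Cen G a b ↔ g ∈ G ∧ g * a = a * g ∧ g * b = b * g := by
  rw [Cen, Subgroup.mem_inf, Subgroup.mem_centralizer_iff]
  constructor
  · rintro ⟨hg, hc⟩
    exact ⟨hg, (hc a (Or.inl rfl)).symm, (hc b (Or.inr rfl)).symm⟩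
  · rintro ⟨hg, h1, h2⟩
    exact ⟨hg, fun k hk => by rcases hk with rfl | rfl; exacts [h1.symm, h2.symm]⟩

theorem cen_apply {g : Perm α} (hg : g ∈ Cen G a b) (y : α) :
    a (g y) = g (a y) ∧ b (g y) = g (b y) :=
  ⟨congrArg (fun k : Perm α => k y) (mem_Cen.mp hg).2.1.symm,
    congrArg (fun k : Perm α => k y) (mem_Cen.mp hg).2.2.symm⟩

theorem cen_classes {g : Perm α} (hg : g ∈ Cen G a b) {y : α} :
    (y ∈ Zs a b → g y ∈ Zs a b) ∧ (y ∈ Pa a b → g y ∈ Pa a b) ∧ (y ∈ Pb a b → g y ∈ Pb a b) ∧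
      (y ∈ Pc a b → g y ∈ Pc a b) ∧ (y ∈ Rf a b → g y ∈ Rf a b) := by
  obtain ⟨k1, k2⟩ := cen_apply hg y
  obtain ⟨k3, -⟩ := cen_apply hg (b y)
  simp only [mem_Zs, mem_Pa, mem_Pb, mem_Pc, mem_Rf, k2, k3, k1, g.injective.eq_iff, ne_eq]
  exact ⟨id, id, id, id, id⟩

theorem a_mem_Cen (h : Pair G f a b) : a ∈ Cen G a b := mem_Cen.mpr ⟨h.amem, rfl, h.comm⟩

theorem b_mem_Cen (h : Pair G f a b) : b ∈ Cen G a b := mem_Cen.mpr ⟨h.bmem, h.comm.symm, rfl⟩

theorem exists_cen (h : Pair G f a b) (hG : Hyp G) {x y : α} (hx : x ∈ Rf a b)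
    (hy : y ∈ Rf a b) : ∃ g ∈ Cen G a b, g x = y := by
  obtain ⟨g, hg, hgo⟩ := hG.trans (h.orb hx) (h.orb hy)
  have conjl : ∀ {z : Perm α} {σ : Perm (Fin 4)}, Lab (h.orb hx) z σ →
      Lab (h.orb hy) (g * z * g⁻¹) σ := fun {z σ} hl i => by
    rw [← hgo i, Perm.mul_apply, Perm.mul_apply, Perm.inv_eq_iff_eq.mpr rfl, hl, hgo]
  obtain ⟨k, hk, -, hka, hkb⟩ := pair_conj hG (h.orb hy) le_rfl
    (G.mul_mem (G.mul_mem hg h.amem) (G.inv_mem hg)) (G.mul_mem (G.mul_mem hg h.bmem) (G.inv_mem hg))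
    h.amem h.bmem
    (by rw [conj_mul, h.a2, mul_one, mul_inv_cancel])
    (by rw [conj_mul, h.b2, mul_one, mul_inv_cancel])
    (by rw [conj_mul, conj_mul, h.comm]) h.a2 h.b2 h.comm
    (conjl (h.la_orb hx)) (h.la_orb hy) (conjl (h.lb_orb hx)) (h.lb_orb hy)
  refine ⟨k * g, mem_Cen.mpr ⟨G.mul_mem hk.1 hg, ?_, ?_⟩, ?_⟩
  · conv_rhs => rw [← hka]
    group
  · conv_rhs => rw [← hkb]
    group
  · rw [Perm.mul_apply, show g x = y from hgo 0]
    exact hk.2 0

/-- The part of the centraliser fixing the four points. -/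
def W (G : Subgroup (Perm α)) (f : Fin 4 ↪ α) (a b : Perm α) : Subgroup (Perm α) :=
  pS G f ⊓ Cen G a b

theorem odd_W (hG : Hyp G) : Odd (Nat.card (W G f a b)) :=
  (hG.odd f).of_dvd_nat (Subgroup.card_dvd_of_le inf_le_left)

theorem cen_split (h : Pair G f a b) (hG : Hyp G) {g : Perm α} (hg : g ∈ Cen G a b) :
    ∃ v ∈ four a b h.a2 h.b2 h.comm, ∃ w ∈ W G f a b, g = v * w := by
  obtain ⟨cPa, cPb, -, -, m0, m1, m2, m3, -⟩ := h.Zs_Pa hG
  have hb_eq : ({f 0, f 1} : Finset α) = Pb a b := Finset.eq_of_subset_of_card_le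
    (by simp [Finset.insert_subset_iff, m0, m1])
    (by rw [cPb, Finset.card_pair (f.injective.ne (by decide))])
  have ha_eq : ({f 2, f 3} : Finset α) = Pa a b := Finset.eq_of_subset_of_card_le
    (by simp [Finset.insert_subset_iff, m2, m3])
    (by rw [cPa, Finset.card_pair (f.injective.ne (by decide))])
  have hmem0 : g (f 0) = f 0 ∨ g (f 0) = f 1 := by
    have := (cen_classes hg).2.2.1 m0
    rw [← hb_eq] at this
    simpa using this
  have hmem2 : g (f 2) = f 2 ∨ g (f 2) = f 3 := by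
    have := (cen_classes hg).2.1 m2
    rw [← ha_eq] at this
    simpa using this
  obtain ⟨v, hv, hv0, hv2⟩ : ∃ v ∈ four a b h.a2 h.b2 h.comm,
      v (g (f 0)) = f 0 ∧ v (g (f 2)) = f 2 := by
    have a1 : a (f 1) = f 0 := h.la 1
    have a2 : a (f 2) = f 2 := h.la 2
    have a3 : a (f 3) = f 3 := h.la 3
    have b0 : b (f 0) = f 0 := h.lb 0
    have b1 : b (f 1) = f 1 := h.lb 1
    have b3 : b (f 3) = f 2 := h.lb 3
    rcases hmem0 with e0 | e0 <;> rcases hmem2 with e2 | e2 <;> rw [e0, e2]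
    · exact ⟨1, Or.inl rfl, rfl, rfl⟩
    · exact ⟨b, Or.inr (Or.inr (Or.inl rfl)), b0, b3⟩
    · exact ⟨a, Or.inr (Or.inl rfl), a1, a2⟩
    · exact ⟨a * b, Or.inr (Or.inr (Or.inr rfl)), by rw [Perm.mul_apply, b1, a1],
        by rw [Perm.mul_apply, b3, a2]⟩
  have hvC : v ∈ Cen G a b := h.four_le h.a_mem_Cen h.b_mem_Cen hv
  have hw : v * g ∈ Cen G a b := mul_mem hvC hg
  refine ⟨v⁻¹, inv_mem hv, v * g, ⟨⟨hw.1, fun i => ?_⟩, hw⟩, by group⟩
  obtain ⟨k1, -⟩ := cen_apply hw (f 0)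
  obtain ⟨-, k2⟩ := cen_apply hw (f 2)
  have a0 : a (f 0) = f 1 := h.la 0
  have b2 : b (f 2) = f 3 := h.lb 2
  rw [Perm.mul_apply, hv0, a0] at k1
  rw [Perm.mul_apply, hv2, b2] at k2
  fin_cases i
  · exact hv0
  · exact k1.symm
  · exact hv2
  · exact k2.symm

theorem W_fix (h : Pair G f a b) (hG : Hyp G) {w : Perm α} (hw : w ∈ W G f a b) {y : α}
    (hy : y ∉ Rf a b) : w y = y := by
  have hpow : w ^ Nat.card (W G f a b) = 1 := pow_card_eq_one_of_mem hw
  obtain ⟨cPa, cPb, cZ, -, -, -, -, -, cPc⟩ := h.Zs_Pa hG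
  have hy' : y ∈ Zs a b ∨ y ∈ Pa a b ∨ y ∈ Pb a b ∨ y ∈ Pc a b := by
    simp only [mem_Rf, mem_Zs, mem_Pa, mem_Pb, mem_Pc] at hy ⊢
    by_cases h1 : a y = y <;> by_cases h2 : b y = y <;> simp_all
  rcases hy' with hy' | hy' | hy' | hy'
  · exact odd_fix_pair (odd_W hG) hpow (by omega) (fun z hz => (cen_classes hw.2).1 hz) hy'
  · exact odd_fix_pair (odd_W hG) hpow (by omega) (fun z hz => (cen_classes hw.2).2.1 hz) hy'
  · exact odd_fix_pair (odd_W hG) hpow (by omega) (fun z hz => (cen_classes hw.2).2.2.1 hz) hy'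
  · exact odd_fix_pair (odd_W hG) hpow (by omega) (fun z hz => (cen_classes hw.2).2.2.2.1 hz) hy'

/-- Only the identity of the four-group agrees at a free point with an element of `W`. -/
theorem free_sep (h : Pair G f a b) (hG : Hyp G) {w v : Perm α} (hw : w ∈ W G f a b)
    (hv : v ∈ four a b h.a2 h.b2 h.comm) {y : α} (hy : y ∈ Rf a b) (he : w y = v y) : v = 1 := by
  have hvv : v * v = 1 := by
    rcases hv with rfl | rfl | rfl | rfl
    exacts [one_mul 1, h.a2, h.b2, h.c2]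
  have hc : Commute w v := by
    rcases hv with rfl | rfl | rfl | rfl
    · exact Commute.one_right w
    · exact (mem_Cen.mp hw.2).2.1
    · exact (mem_Cen.mp hw.2).2.2
    · exact (show Commute w a from (mem_Cen.mp hw.2).2.1).mul_right (mem_Cen.mp hw.2).2.2
  have key : ∀ n : ℕ, (w ^ n) y = (v ^ n) y := by
    intro n
    induction n with
    | zero => rfl
    | succ n ih =>
      rw [pow_succ', Perm.mul_apply, ih, ← Perm.mul_apply, (hc.pow_right n).eq, Perm.mul_apply,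
        he, pow_succ, Perm.mul_apply]
  have hodd := odd_W (G := G) (f := f) (a := a) (b := b) hG
  obtain ⟨m, hm⟩ := hodd
  have hk := key (Nat.card (W G f a b))
  rw [pow_card_eq_one_of_mem hw, Perm.one_apply, hm, pow_succ, pow_mul, sq, hvv, one_pow,
    one_mul] at hk
  obtain ⟨h1, h2, h3⟩ := mem_Rf.mp hy
  rcases hv with rfl | rfl | rfl | rfl
  · rfl
  · exact absurd hk.symm h1
  · exact absurd hk.symm h2
  · exact absurd hk.symm h3

/-- The orbit of `W` at a free point. -/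
def WOrb (G : Subgroup (Perm α)) (f : Fin 4 ↪ α) (a b : Perm α) (x : α) : Set α :=
  orbit (W G f a b) x

theorem mem_WOrb {x y : α} : y ∈ WOrb G f a b x ↔ ∃ w ∈ W G f a b, w x = y := by
  constructor
  · rintro ⟨⟨w, hw⟩, rfl⟩; exact ⟨w, hw, rfl⟩
  · rintro ⟨w, hw, rfl⟩; exact ⟨⟨w, hw⟩, rfl⟩

theorem Rf_cover (h : Pair G f a b) (hG : Hyp G) {x y : α} (hx : x ∈ Rf a b) (hy : y ∈ Rf a b) :
    ∃ v ∈ four a b h.a2 h.b2 h.comm, ∃ w ∈ W G f a b, y = v (w x) := by
  obtain ⟨g, hg, hgx⟩ := h.exists_cen hG hx hy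
  obtain ⟨v, hv, w, hw, rfl⟩ := h.cen_split hG hg
  exact ⟨v, hv, w, hw, hgx.symm⟩

theorem card_Rf (h : Pair G f a b) (hG : Hyp G) {x : α} (hx : x ∈ Rf a b) :
    (Rf a b).card = 4 * (WOrb G f a b x).ncard ∧
      (WOrb G f a b x).ncard ∣ Nat.card (pS G f) := by
  constructor
  · let V := four a b h.a2 h.b2 h.comm
    let F : V × WOrb G f a b x → (Rf a b : Set α) := fun q =>
      ⟨(q.1 : Perm α) (q.2 : α), by
        obtain ⟨w, hw, he⟩ := mem_WOrb.mp q.2.2
        rw [← he, Finset.mem_coe]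
        exact (cen_classes (h.four_le h.a_mem_Cen h.b_mem_Cen q.1.2)).2.2.2.2
          ((cen_classes hw.2).2.2.2.2 hx)⟩
    have hF : Function.Bijective F := by
      constructor
      · rintro ⟨⟨v, hv⟩, ⟨y, hy⟩⟩ ⟨⟨v', hv'⟩, ⟨y', hy'⟩⟩ e
        have e' : v y = v' y' := congrArg Subtype.val e
        obtain ⟨w, hw, rfl⟩ := mem_WOrb.mp hy
        obtain ⟨w', hw', rfl⟩ := mem_WOrb.mp hy'
        have hyR : w x ∈ Rf a b := (cen_classes hw.2).2.2.2.2 hx
        have h1 := h.free_sep hG (w := w' * w⁻¹) (v := v'⁻¹ * v)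
          ((W G f a b).mul_mem hw' ((W G f a b).inv_mem hw)) (V.mul_mem (V.inv_mem hv') hv) hyR (by
            rw [Perm.mul_apply, Perm.mul_apply, Perm.inv_eq_iff_eq.mpr rfl, e',
              Perm.inv_eq_iff_eq.mpr rfl])
        obtain rfl : v' = v := inv_mul_eq_one.mp h1
        simpa using v'.injective e'
      · rintro ⟨y, hy⟩
        obtain ⟨v, hv, w, hw, rfl⟩ := h.Rf_cover hG hx (Finset.mem_coe.mp hy)
        exact ⟨⟨⟨v, hv⟩, ⟨w x, mem_WOrb.mpr ⟨w, hw, rfl⟩⟩⟩, rfl⟩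
    have hcardV : Nat.card V = 4 := by
      let E : Fin 4 → V := fun i => ⟨![1, a, b, a * b] i, by
        fin_cases i
        exacts [Or.inl rfl, Or.inr (Or.inl rfl), Or.inr (Or.inr (Or.inl rfl)),
          Or.inr (Or.inr (Or.inr rfl))]⟩
      have hE : Function.Bijective E := by
        refine ⟨fun i j e => (h.orb hx).injective ?_, ?_⟩
        · have := congrArg (fun v : V => (v : Perm α) x) e
          fin_cases i <;> fin_cases j <;> exact this
        · rintro ⟨v, rfl | rfl | rfl | rfl⟩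
          exacts [⟨0, rfl⟩, ⟨1, rfl⟩, ⟨2, rfl⟩, ⟨3, rfl⟩]
      rw [← Nat.card_congr (Equiv.ofBijective E hE), Nat.card_fin]
    have := Nat.card_congr (Equiv.ofBijective F hF)
    rw [Nat.card_prod, hcardV, Nat.card_coe_set_eq, Nat.card_coe_set_eq,
      Set.ncard_coe_finset] at this
    exact this.symm
  · refine dvd_trans ?_ (Subgroup.card_dvd_of_le (inf_le_left : W G f a b ≤ pS G f))
    show (orbit (W G f a b) x).ncard ∣ _
    rw [← MulAction.index_stabilizer]
    exact Subgroup.index_dvd_card _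

/-- The shape of an invariant fixed point set through a free point. -/
theorem fix_card (h : Pair G f a b) (hG : Hyp G) {x : α} (hx : x ∈ Rf a b) (D : Finset α)
    (hxD : x ∈ D) (ha : ∀ y ∈ D, a y ∈ D) (hb : ∀ y ∈ D, b y ∈ D)
    (h1 : u * a * u⁻¹ = b) (h2 : u * b * u⁻¹ = a * b) (hu : ∀ y ∈ D, u y ∈ D) :
    ∃ e j : ℕ, (e = 0 ∨ e = 2) ∧ 1 ≤ j ∧ (D ∩ Zs a b).card ≤ Fintype.card α % 2 ∧
      D.card = (D ∩ Zs a b).card + 3 * e + 4 * j := by
  obtain ⟨cPa, cPb, cZ1, cZ, -, -, -, -, -⟩ := h.Zs_Pa hG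
  have hle : ∀ {S T : Finset α}, (∀ y ∈ S, u y ∈ T) → (D ∩ S).card ≤ (D ∩ T).card := fun hST =>
    Finset.card_le_card_of_injOn u
      (fun y hy => Finset.mem_inter.mpr ⟨hu y (Finset.mem_inter.mp hy).1,
        hST y (Finset.mem_inter.mp hy).2⟩) u.injective.injOn
  have l1 := hle (fun y hy => h.u_Pa h1 h2 hy)
  have l2 := hle (fun y hy => h.u_Pb h1 h2 hy)
  have l3 := hle (fun y hy => h.u_Pc h1 h2 hy)
  have ea : Even (D ∩ Pa a b).card := even_card_of_invol h.b2 _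
    (fun y hy => Finset.mem_inter.mpr ⟨hb y (Finset.mem_inter.mp hy).1,
      (cen_classes h.b_mem_Cen).2.1 (Finset.mem_inter.mp hy).2⟩)
    (fun y hy => (mem_Pa.mp (Finset.mem_inter.mp hy).2).2)
  have la : (D ∩ Pa a b).card ≤ 2 := cPa ▸ Finset.card_le_card Finset.inter_subset_right
  obtain ⟨j, hj⟩ : 4 ∣ (D ∩ Rf a b).card := by
    suffices H : ∀ (n : ℕ) (S : Finset α), S.card = n → (∀ y ∈ S, y ∈ Rf a b) →
        (∀ y ∈ S, a y ∈ S) → (∀ y ∈ S, b y ∈ S) → 4 ∣ n from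
      H _ _ rfl (fun y hy => (Finset.mem_inter.mp hy).2)
        (fun y hy => Finset.mem_inter.mpr ⟨ha y (Finset.mem_inter.mp hy).1,
          h.Rf_a (Finset.mem_inter.mp hy).2⟩)
        (fun y hy => Finset.mem_inter.mpr ⟨hb y (Finset.mem_inter.mp hy).1,
          h.Rf_b (Finset.mem_inter.mp hy).2⟩)
    intro n
    induction n using Nat.strong_induction_on with
    | _ n ih =>
      intro S hS hR hSa hSb
      rcases S.eq_empty_or_nonempty with rfl | ⟨y, hy⟩
      · simp [← hS]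
      set O : Finset α := univ.map (h.orb (hR y hy)) with hO
      have hOc : O.card = 4 := by rw [hO, Finset.card_map, Finset.card_univ, Fintype.card_fin]
      have hOS : O ⊆ S := by
        intro z hz
        simp only [hO, Finset.mem_map, Finset.mem_univ, true_and] at hz
        obtain ⟨i, rfl⟩ := hz
        fin_cases i
        exacts [hy, hSa y hy, hSb y hy, hSa _ (hSb y hy)]
      have hOa : ∀ z ∈ O, a z ∈ O := by
        intro z hz
        simp only [hO, Finset.mem_map, Finset.mem_univ, true_and] at hz ⊢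
        obtain ⟨i, rfl⟩ := hz
        exact ⟨_, ((h.la_orb (hR y hy)) i).symm⟩
      have hOb : ∀ z ∈ O, b z ∈ O := by
        intro z hz
        simp only [hO, Finset.mem_map, Finset.mem_univ, true_and] at hz ⊢
        obtain ⟨i, rfl⟩ := hz
        exact ⟨_, ((h.lb_orb (hR y hy)) i).symm⟩
      have hc : (S \ O).card + 4 = n := by
        rw [Finset.card_sdiff_of_subset hOS, hOc, ← hS]
        have := Finset.card_le_card hOS
        omega
      have := ih _ (by omega) (S \ O) rfl (fun z hz => hR z (Finset.mem_sdiff.mp hz).1)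
        (fun z hz => Finset.mem_sdiff.mpr ⟨hSa z (Finset.mem_sdiff.mp hz).1,
          fun hm => (Finset.mem_sdiff.mp hz).2 (h.aa z ▸ hOa _ hm)⟩)
        (fun z hz => Finset.mem_sdiff.mpr ⟨hSb z (Finset.mem_sdiff.mp hz).1,
          fun hm => (Finset.mem_sdiff.mp hz).2 (h.bb z ▸ hOb _ hm)⟩)
      omega
  have hj1 : 0 < (D ∩ Rf a b).card := Finset.card_pos.mpr ⟨x, Finset.mem_inter.mpr ⟨hxD, hx⟩⟩
  have hsum := card_inter_classes a b D
  have hz : (D ∩ Zs a b).card ≤ Fintype.card α % 2 :=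
    cZ ▸ Finset.card_le_card Finset.inter_subset_right
  rw [Nat.even_iff] at ea
  exact ⟨(D ∩ Pa a b).card, j, by omega, by omega, hz, by omega⟩

end Pair

end Cfsg.Agent.OddFour
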