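/-
Four-transitive groups with a four-point stabiliser of odd order: fixed points of Sylow subgroups.

* `Fx`, `card_modEq_Fx`, `Fx_lt`, `Fx_conj` : fixed point sets
* `exists_induced` : the normaliser of a Sylow subgroup induces a group of the same kind (Witt)
* `orbit_class` : orbits of invariant subgroups fixing all free points
-/
import Cfsg.Agent.Lib.OddFour.Klein

set_option autoImplicit false
set_option linter.unusedSectionVars false

open Equiv MulAction Finset

namespace Cfsg.Agent.OddFour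

variable {α : Type*} [Fintype α] [DecidableEq α] {G : Subgroup (Perm α)}

open Classical in
/-- The fixed points of `P`. -/
noncomputable def Fx (P : Subgroup (Perm α)) : Finset α := univ.filter fun y => ∀ g ∈ P, g y = y

theorem mem_Fx {P : Subgroup (Perm α)} {y : α} : y ∈ Fx P ↔ ∀ g ∈ P, g y = y := by simp [Fx]

theorem card_modEq_Fx {p : ℕ} [Fact p.Prime] {P : Subgroup (Perm α)} (hP : IsPGroup p P) :
    Fintype.card α ≡ (Fx P).card [MOD p] := by
  have h := hP.card_modEq_card_fixedPoints α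
  rw [Nat.card_eq_fintype_card] at h
  convert h using 1
  rw [Nat.card_coe_set_eq, ← Set.ncard_coe_finset]
  congr 1
  ext y
  rw [Finset.mem_coe, mem_Fx, mem_fixedPoints]
  exact ⟨fun h g => h g g.2, fun h g hg => h ⟨g, hg⟩⟩

theorem Fx_lt {p : ℕ} [Fact p.Prime] {P K : Subgroup (Perm α)} (hP : Syl p P K)
    (hp : p ∣ Nat.card K) : (Fx P).card < Fintype.card α := by
  refine lt_of_le_of_ne (Finset.card_le_univ _) fun e => ?_
  have huniv := (Finset.card_eq_iff_eq_univ _).mp e
  have hbot : P = ⊥ := by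
    rw [Subgroup.eq_bot_iff_forall]
    intro g hg
    ext y
    exact mem_Fx.mp (huniv ▸ Finset.mem_univ y) g hg
  have hv : 1 ≤ (Nat.card K).factorization p :=
    (Fact.out : p.Prime).factorization_pos_of_dvd Nat.card_pos.ne' hp
  have h := hP.2
  rw [hbot, Subgroup.card_bot] at h
  have : p ≤ p ^ (Nat.card K).factorization p := Nat.le_self_pow (by omega) p
  have := (Fact.out : p.Prime).two_le
  omega

theorem apply_mem_Fx {P : Subgroup (Perm α)} {g : Perm α}
    (hg : g ∈ Subgroup.normalizer (P : Set (Perm α))) {y : α} (hy : y ∈ Fx P) : g y ∈ Fx P := by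
  rw [mem_Fx] at hy ⊢
  intro k hk
  have := hy _ ((Subgroup.mem_normalizer_iff''.mp hg k).mp hk)
  rw [Perm.mul_apply, Perm.mul_apply, Perm.inv_eq_iff_eq] at this
  exact this

theorem Fx_conj (P : Subgroup (Perm α)) (g : Perm α) :
    (Fx (P.map (MulAut.conj g).toMonoidHom)).card = (Fx P).card := by
  refine (Finset.card_bij' (fun y _ => g y) (fun y _ => g⁻¹ y) (fun y hy => ?_) (fun y hy => ?_)
    (fun y _ => by simp) (fun y _ => by simp)).symm
  · rw [mem_Fx] at hy ⊢
    rintro _ ⟨k, hk, rfl⟩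
    show (g * k * g⁻¹) (g y) = g y
    rw [Perm.mul_apply, Perm.mul_apply, Perm.inv_eq_iff_eq.mpr rfl, hy k hk]
  · rw [mem_Fx] at hy ⊢
    intro k hk
    have : (g * k * g⁻¹) y = y := hy _ ⟨k, hk, rfl⟩
    rw [Perm.mul_apply, Perm.mul_apply] at this
    rw [eq_comm, Perm.inv_eq_iff_eq, this]

theorem Fx_card_eq (hG : Hyp G) {p : ℕ} [Fact p.Prime] {o o' : Fin 4 ↪ α}
    {P P' : Subgroup (Perm α)} (hP : Syl p P (pS G o)) (hP' : Syl p P' (pS G o')) :
    (Fx P').card = (Fx P).card := by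
  obtain ⟨g, hg, hgo⟩ := hG.trans o o'
  obtain ⟨k, -, hk⟩ := syl_conj (pS_map_conj hg hgo ▸ hP.map_conj g) hP'
  rw [← hk, Fx_conj, Fx_conj]

theorem base_mem_Fx {p : ℕ} {o : Fin 4 ↪ α} {P : Subgroup (Perm α)} (hP : Syl p P (pS G o))
    (i : Fin 4) : o i ∈ Fx P :=
  mem_Fx.mpr fun _ hg => (hP.1 hg).2 i

/-- Witt: the normaliser of a Sylow subgroup of a four-point stabiliser induces a group of the same
kind on the fixed points. -/
theorem exists_induced (hG : Hyp G) {p : ℕ} [Fact p.Prime] {o : Fin 4 ↪ α}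
    {P : Subgroup (Perm α)} (hP : Syl p P (pS G o)) :
    ∃ G' : Subgroup (Perm {y // y ∈ Fx P}), Hyp G' ∧ Nonempty (Fin 4 ↪ {y // y ∈ Fx P}) := by
  set N := G ⊓ Subgroup.normalizer (P : Set (Perm α)) with hN
  have hinv : ∀ g : N, ∀ y, (g : Perm α) y ∈ Fx P ↔ y ∈ Fx P := fun g y =>
    ⟨fun h => by
      have := apply_mem_Fx ((Subgroup.normalizer (P : Set (Perm α))).inv_mem g.2.2) h
      rwa [Perm.inv_eq_iff_eq.mpr rfl] at this, apply_mem_Fx g.2.2⟩
  let ρ : N →* Perm {y // y ∈ Fx P} :=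
    { toFun := fun g => (g : Perm α).subtypePerm (hinv g)
      map_one' := by ext; rfl
      map_mul' := fun g h => by ext; rfl }
  refine ⟨ρ.range, ⟨fun e e' => ?_, fun e => ?_⟩,
    ⟨⟨fun i => ⟨o i, base_mem_Fx hP i⟩, fun i j h => o.injective (congrArg Subtype.val h)⟩⟩⟩
  · -- transitivity
    let E : Fin 4 ↪ α := e.trans (Function.Embedding.subtype _)
    let E' : Fin 4 ↪ α := e'.trans (Function.Embedding.subtype _)
    have hsyl : ∀ F : Fin 4 ↪ α, (∀ i, F i ∈ Fx P) → Syl p P (pS G F) := fun F hF =>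
      ⟨fun k hk => ⟨(hP.1 hk).1, fun i => mem_Fx.mp (hF i) k hk⟩, by
        rw [hP.2, card_pS_eq hG o F]⟩
    obtain ⟨g, hg, hgE⟩ := hG.trans E E'
    obtain ⟨k, hk, hkP⟩ := syl_conj
      (pS_map_conj hg hgE ▸ (hsyl E fun i => (e i).2).map_conj g) (hsyl E' fun i => (e' i).2)
    have hmem : k * g ∈ N := ⟨G.mul_mem hk.1 hg, Subgroup.mem_normalizer_iff_map_conj_eq.mpr (by
      conv_rhs => rw [← hkP, Subgroup.map_map]
      congr 1)⟩
    refine ⟨ρ ⟨_, hmem⟩, ⟨_, rfl⟩, fun i => Subtype.ext ?_⟩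
    show (k * g) (E i) = E' i
    rw [Perm.mul_apply, hgE, hk.2]
  · -- parity
    let E : Fin 4 ↪ α := e.trans (Function.Embedding.subtype _)
    have hle : pS ρ.range e ≤ ((pS G E).subgroupOf N).map ρ := by
      rintro _ ⟨⟨g, rfl⟩, hge⟩
      exact ⟨g, ⟨g.2.1, fun i => congrArg Subtype.val (hge i)⟩, rfl⟩
    refine (hG.odd E).of_dvd_nat ?_
    refine ((Subgroup.card_dvd_of_le hle).trans (Subgroup.card_map_dvd _ _)).trans ?_
    rw [← Subgroup.card_subtype, Subgroup.subgroupOf_map_subtype]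
    exact Subgroup.card_dvd_of_le inf_le_left

theorem card_orbit_pow {p : ℕ} [Fact p.Prime] {P : Subgroup (Perm α)} (hP : IsPGroup p P) (y : α) :
    ∃ i : ℕ, (orbit P y).ncard = p ^ i := by
  obtain ⟨i, hi⟩ := hP.card_orbit y
  exact ⟨i, by rw [← Nat.card_coe_set_eq, hi]⟩

theorem mem_orbit_sub {P : Subgroup (Perm α)} {y z : α} :
    z ∈ orbit P y ↔ ∃ g ∈ P, g y = z := by
  constructor
  · rintro ⟨⟨g, hg⟩, rfl⟩; exact ⟨g, hg, rfl⟩
  · rintro ⟨g, hg, rfl⟩; exact ⟨⟨g, hg⟩, rfl⟩

theorem normalizer_orbit {P : Subgroup (Perm α)} {g : Perm α}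
    (hg : g ∈ Subgroup.normalizer (P : Set (Perm α))) {y z : α} (hz : z ∈ orbit P y) :
    g z ∈ orbit P (g y) := by
  obtain ⟨k, hk, rfl⟩ := mem_orbit_sub.mp hz
  exact mem_orbit_sub.mpr ⟨g * k * g⁻¹, (Subgroup.mem_normalizer_iff.mp hg k).mp hk, by
    rw [Perm.mul_apply, Perm.mul_apply, Perm.inv_eq_iff_eq.mpr rfl]⟩

namespace Pair

variable {f : Fin 4 ↪ α} {a b : Perm α}

/-- If an invariant `p`-group fixes all free points and moves the first point, the orbit of that
point contains a common fixed point. -/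
theorem orbit_class (h : Pair G f a b) (hG : Hyp G) {p : ℕ} [Fact p.Prime] (hp : p ≠ 2)
    {P : Subgroup (Perm α)} (hP : IsPGroup p P)
    (ha : a ∈ Subgroup.normalizer (P : Set (Perm α)))
    (hb : b ∈ Subgroup.normalizer (P : Set (Perm α)))
    (hR : ∀ y ∈ Rf a b, y ∈ Fx P) (h0 : f 0 ∉ Fx P) :
    ∃ z ∈ Zs a b, z ∈ orbit P (f 0) := by
  classical
  obtain ⟨-, cPb, -, -, m0, m1, -, -, -⟩ := h.Zs_Pa hG
  set A : Finset α := univ.filter fun y => y ∈ orbit P (f 0) with hA
  have hmem : ∀ {y}, y ∈ A ↔ y ∈ orbit P (f 0) := fun {y} => by simp [hA]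
  have hself : f 0 ∈ A := hmem.mpr (mem_orbit_self _)
  have hodd : Odd A.card := by
    obtain ⟨i, hi⟩ := card_orbit_pow hP (f 0)
    have : (A : Set α) = orbit P (f 0) := Set.ext fun y => hmem
    rw [← Set.ncard_coe_finset, this, hi]
    exact ((Fact.out : p.Prime).odd_of_ne_two hp).pow
  have hAR : ∀ y ∈ A, y ∉ Rf a b := by
    intro y hy hyR
    obtain ⟨g, hg, rfl⟩ := mem_orbit_sub.mp (hmem.mp hy)
    have h1 := mem_Fx.mp (hR _ hyR) g hg
    rw [← g.injective h1] at h0
    exact h0 (hR _ hyR)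
  have bA : ∀ y ∈ A, b y ∈ A := fun y hy => hmem.mpr (by
    have h1 := normalizer_orbit hb (hmem.mp hy)
    rwa [show b (f 0) = f 0 from h.lb 0] at h1)
  have a0 : a (f 0) = f 1 := h.la 0
  have aA : ∀ y ∈ A, a y ∈ orbit P (f 1) := fun y hy => a0 ▸ normalizer_orbit ha (hmem.mp hy)
  by_cases h1 : f 1 ∈ A
  · -- the orbit is invariant under the four-group
    have aA' : ∀ y ∈ A, a y ∈ A := fun y hy => hmem.mpr (by
      rw [← orbit_eq_iff.mpr (hmem.mp h1)]
      exact aA y hy)
    by_contra hno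
    push Not at hno
    have hz : A ∩ Zs a b = ∅ := Finset.eq_empty_of_forall_notMem fun y hy =>
      hno y (Finset.mem_inter.mp hy).2 (hmem.mp (Finset.mem_inter.mp hy).1)
    have hr : A ∩ Rf a b = ∅ := Finset.eq_empty_of_forall_notMem fun y hy =>
      hAR y (Finset.mem_inter.mp hy).1 (Finset.mem_inter.mp hy).2
    have ea : Even (A ∩ Pa a b).card := even_card_of_invol h.b2 _
      (fun y hy => Finset.mem_inter.mpr ⟨bA y (Finset.mem_inter.mp hy).1,
        (cen_classes h.b_mem_Cen).2.1 (Finset.mem_inter.mp hy).2⟩)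
      (fun y hy => (mem_Pa.mp (Finset.mem_inter.mp hy).2).2)
    have eb : Even (A ∩ Pb a b).card := even_card_of_invol h.a2 _
      (fun y hy => Finset.mem_inter.mpr ⟨aA' y (Finset.mem_inter.mp hy).1,
        (cen_classes h.a_mem_Cen).2.2.1 (Finset.mem_inter.mp hy).2⟩)
      (fun y hy => (mem_Pb.mp (Finset.mem_inter.mp hy).2).2)
    have ec : Even (A ∩ Pc a b).card := even_card_of_invol h.a2 _
      (fun y hy => Finset.mem_inter.mpr ⟨aA' y (Finset.mem_inter.mp hy).1,
        (cen_classes h.a_mem_Cen).2.2.2.1 (Finset.mem_inter.mp hy).2⟩)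
      (fun y hy => (mem_Pc.mp (Finset.mem_inter.mp hy).2).2)
    have hsum := card_inter_classes a b A
    rw [hz, hr, Finset.card_empty] at hsum
    exact Nat.not_even_iff_odd.mpr hodd (hsum ▸ by simpa using (ea.add eb).add ec)
  · -- the orbit is disjoint from its image under `a`, hence inside `Pb`
    exfalso
    have hna : ∀ y ∈ A, a y ∉ A := by
      intro y hy hay
      apply h1
      rw [hmem, ← orbit_eq_iff, ← orbit_eq_iff.mpr (aA y hy)]
      exact orbit_eq_iff.mpr (hmem.mp hay)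
    have hsub : A ⊆ Pb a b := by
      intro y hy
      have hyR := hAR y hy
      simp only [mem_Rf] at hyR
      by_cases hay : a y = y
      · exact absurd (hay.symm ▸ hy : a y ∈ A) (hna y hy)
      · refine mem_Pb.mpr ⟨?_, hay⟩
        by_contra hby
        have habc : a (b y) = y := by
          by_contra hc
          exact hyR ⟨hay, hby, hc⟩
        have : a y = b y := by
          have := congrArg a habc
          rw [h.aa] at this
          exact this.symm
        exact hna y hy (this ▸ bA y hy)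
    have hA1 : A ⊆ {f 0} := by
      intro y hy
      have heq : ({f 0, f 1} : Finset α) = Pb a b := Finset.eq_of_subset_of_card_le
        (by simp [Finset.insert_subset_iff, m0, m1])
        (by rw [cPb, Finset.card_pair (f.injective.ne (by decide))])
      have hy' := hsub hy
      rw [← heq, Finset.mem_insert, Finset.mem_singleton] at hy'
      rcases hy' with rfl | rfl
      · exact Finset.mem_singleton_self _
      · exact absurd hy h1
    refine h0 (mem_Fx.mpr fun g hg => ?_)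
    simpa using hA1 (hmem.mpr (mem_orbit_sub.mpr ⟨g, hg, rfl⟩))

end Pair

end Cfsg.Agent.OddFour
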