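/-
Four-transitive groups with a four-point stabiliser of odd order: `n = 7 + 4·3^m` with `m ≥ 1` is
impossible when the Sylow 3-subgroups of the four-point stabilisers fix only four points.

* `sylow_orbit_le` : a Sylow `p`-subgroup is transitive on an orbit of `p`-power length
* `three_power_false`
-/
import Cfsg.Agent.Lib.OddFour.Fixed

set_option autoImplicit false
set_option linter.unusedSectionVars false

open Equiv MulAction Finset

namespace Cfsg.Agent.OddFour

variable {α : Type*} [Fintype α] [DecidableEq α] {G : Subgroup (Perm α)}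

theorem card_orbit_mul_fix (K : Subgroup (Perm α)) (x : α) :
    (orbit K x).ncard * Nat.card ↥(K ⊓ stabilizer (Perm α) x) = Nat.card K := by
  rw [← MulAction.index_stabilizer]
  have e : Nat.card (stabilizer K x) = Nat.card ↥(K ⊓ stabilizer (Perm α) x) :=
    Nat.card_congr
      { toFun := fun g => ⟨(g.1 : Perm α), g.1.2, g.2⟩
        invFun := fun g => ⟨⟨g.1, g.2.1⟩, g.2.2⟩
        left_inv := fun _ => rfl
        right_inv := fun _ => rfl }
  rw [← e]
  exact Subgroup.index_mul_card _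

theorem sylow_orbit_le {p m : ℕ} [Fact p.Prime] {K T : Subgroup (Perm α)} (hT : Syl p T K) {x : α}
    (hm : (orbit K x).ncard = p ^ m) : orbit K x = orbit T x := by
  have hp : p.Prime := Fact.out
  refine (Set.eq_of_subset_of_ncard_le (fun y hy => ?_) ?_ (Set.toFinite _)).symm
  · obtain ⟨g, hg, rfl⟩ := mem_orbit_sub.mp hy
    exact mem_orbit_sub.mpr ⟨g, hT.1 hg, rfl⟩
  obtain ⟨i, hi⟩ := card_orbit_pow hT.isPGroup x
  have hK := card_orbit_mul_fix K x
  have hT' := card_orbit_mul_fix T x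
  rw [hm] at hK ⊢
  rw [hi, hT.2, ← hK] at hT'
  rw [hi]
  refine Nat.pow_le_pow_right hp.pos ?_
  set sT := Nat.card ↥(T ⊓ stabilizer (Perm α) x)
  set sK := Nat.card ↥(K ⊓ stabilizer (Perm α) x)
  have hd : sT ∣ sK := Subgroup.card_dvd_of_le (inf_le_inf_right _ hT.1)
  have hpos : sK ≠ 0 := Nat.card_pos.ne'
  have hpos' : sT ≠ 0 := Nat.card_pos.ne'
  have hle := Finsupp.le_def.mp ((Nat.factorization_le_iff_dvd hpos' hpos).mpr hd) p
  have h := congrArg (fun k => k.factorization p) hT'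
  simp only [Nat.factorization_mul (pow_ne_zero _ hp.ne_zero) hpos,
    Nat.factorization_mul (pow_ne_zero _ hp.ne_zero) hpos', Finsupp.add_apply,
    hp.factorization_pow, Finsupp.single_eq_same] at h
  omega

theorem perm_four_odd : ∀ g : Perm (Fin 4), g ^ 3 = 1 ∨ g ^ 4 = 1 := by decide +kernel

theorem perm_four_cube {g : Perm (Fin 4)} {N : ℕ} (hN : Odd N) (h : g ^ N = 1) : g ^ 3 = 1 := by
  rcases perm_four_odd g with h3 | h4
  · exact h3
  · have hc : (orderOf g).Coprime 4 := by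
      have : (orderOf g).Coprime 2 := Nat.coprime_two_right.mpr
        (hN.of_dvd_nat (orderOf_dvd_of_pow_eq_one h))
      exact this.pow_right 2
    have := Nat.eq_one_of_dvd_coprimes hc dvd_rfl (orderOf_dvd_of_pow_eq_one h4)
    rw [orderOf_eq_one_iff.mp this, one_pow]

theorem perm_four_kill : ∀ g : Perm (Fin 4), g ^ 3 = 1 →
    ((swap 0 1 * swap 2 3) * g * (swap 0 1 * swap 2 3) * g⁻¹) ^ 3 = 1 →
    ((swap 0 2 * swap 1 3) * g * (swap 0 2 * swap 1 3) * g⁻¹) ^ 3 = 1 → g = 1 := by decide +kernel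

theorem perm_four_five : ∀ g : Perm (Fin 4), g ^ 5 = 1 → g = 1 := by decide +kernel

/-- The subgroup of elements of `G` preserving `S`. -/
def Pres (G : Subgroup (Perm α)) (S : Finset α) : Subgroup (Perm α) where
  carrier := {g | g ∈ G ∧ ∀ y, g y ∈ S ↔ y ∈ S}
  one_mem' := ⟨G.one_mem, fun _ => Iff.rfl⟩
  mul_mem' {g h} hg hh := ⟨G.mul_mem hg.1 hh.1, fun y => (hg.2 (h y)).trans (hh.2 y)⟩
  inv_mem' {g} hg := ⟨G.inv_mem hg.1, fun y => by
    rw [← hg.2 (g⁻¹ y)]; simp⟩

/-- The subgroup of elements of `G` fixing all points outside `S`. -/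
def FixOff (G : Subgroup (Perm α)) (S : Finset α) : Subgroup (Perm α) where
  carrier := {g | g ∈ G ∧ ∀ y, y ∉ S → g y = y}
  one_mem' := ⟨G.one_mem, fun _ _ => rfl⟩
  mul_mem' {g h} hg hh := ⟨G.mul_mem hg.1 hh.1, fun y hy => by
    rw [Perm.mul_apply, hh.2 y hy, hg.2 y hy]⟩
  inv_mem' {g} hg := ⟨G.inv_mem hg.1, fun y hy => by rw [Perm.inv_eq_iff_eq, hg.2 y hy]⟩

theorem fixOff_le_pres (G : Subgroup (Perm α)) (S : Finset α) : FixOff G S ≤ Pres G S := by
  intro g hg
  refine ⟨hg.1, fun y => ?_⟩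
  constructor
  · intro h
    by_contra hy
    exact hy (hg.2 y hy ▸ h)
  · intro hy
    by_contra h
    have := hg.2 _ h
    exact h (by rw [g.injective this]; exact hy)

theorem pres_normalizes_fixOff {S : Finset α} {g : Perm α} (hg : g ∈ Pres G S) :
    (FixOff G S).map (MulAut.conj g).toMonoidHom = FixOff G S := by
  refine Subgroup.eq_of_le_of_card_ge ?_
    (Subgroup.card_map_of_injective (MulEquiv.injective _)).ge
  rintro _ ⟨k, hk, rfl⟩
  refine ⟨G.mul_mem (G.mul_mem hg.1 hk.1) (G.inv_mem hg.1), fun y hy => ?_⟩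
  show (g * k * g⁻¹) y = y
  rw [Perm.mul_apply, Perm.mul_apply, hk.2 (g⁻¹ y) (fun h => hy (by
    have := (hg.2 (g⁻¹ y)).mpr h
    simpa using this))]
  simp

namespace Pair

variable {f : Fin 4 ↪ α} {a b : Perm α}

theorem u_Rf (h : Pair G f a b) {u : Perm α} (h1 : u * a * u⁻¹ = b) (h2 : u * b * u⁻¹ = a * b)
    (y : α) : u y ∈ Rf a b ↔ y ∈ Rf a b := by
  obtain ⟨k1, k2, k3⟩ := h.u_maps h1 h2 y
  rw [mem_Rf, mem_Rf, k2, k1, k3]
  simp only [u.injective.eq_iff, ne_eq]
  tauto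

set_option maxHeartbeats 800000 in
theorem three_power_false (h : Pair G f a b) (hG : Hyp G) (hodd : Fintype.card α % 2 = 1) {x : α}
    (hx : x ∈ Rf a b) {m : ℕ} (hm : 1 ≤ m) (hk : (WOrb G f a b x).ncard = 3 ^ m)
    (hfour : ∀ (o : Fin 4 ↪ α) (P : Subgroup (Perm α)),
      Syl 3 P (pS G o) → (Fx P).card = 4) : False := by
  classical
  have : Fact (Nat.Prime 3) := ⟨Nat.prime_three⟩
  obtain ⟨cPa, cPb, -, cZ, m0, m1, m2, m3, -⟩ := h.Zs_Pa hG
  have cPc := h.card_Pc hG hx
  rw [hodd] at cZ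
  obtain ⟨z, hz⟩ := Finset.card_eq_one.mp cZ
  have hzmem : z ∈ Zs a b := hz ▸ Finset.mem_singleton_self z
  have hza : a z = z := (mem_Zs.mp hzmem).1
  have hzb : b z = z := (mem_Zs.mp hzmem).2
  have Pb_eq : ({f 0, f 1} : Finset α) = Pb a b := Finset.eq_of_subset_of_card_le
    (by simp [Finset.insert_subset_iff, m0, m1])
    (by rw [cPb, Finset.card_pair (f.injective.ne (by decide))])
  have Pa_eq : ({f 2, f 3} : Finset α) = Pa a b := Finset.eq_of_subset_of_card_le
    (by simp [Finset.insert_subset_iff, m2, m3])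
    (by rw [cPa, Finset.card_pair (f.injective.ne (by decide))])
  -- a Sylow 3-subgroup of `W`, and an invariant Sylow subgroup of the stabiliser above it
  set T : Subgroup (Perm α) :=
    ((default : Sylow 3 (W G f a b)) : Subgroup (W G f a b)).map (W G f a b).subtype with hTdef
  have hT : Syl 3 T (W G f a b) := syl_of_sylow _
  have hTorb : orbit (W G f a b) x = orbit T x := sylow_orbit_le hT hk
  have hna : a ∈ Subgroup.normalizer (pS G f : Set (Perm α)) := normalizes_pS h.amem h.la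
  have hnb : b ∈ Subgroup.normalizer (pS G f : Set (Perm α)) := normalizes_pS h.bmem h.lb
  have hTV : four a b h.a2 h.b2 h.comm ≤ Subgroup.normalizer (T : Set (Perm α)) := by
    intro v hv
    have hcomm : ∀ t ∈ T, v * t * v⁻¹ = t := by
      intro t ht
      have ht' := mem_Cen.mp (hT.1 ht).2
      have : Commute v t := by
        rcases hv with rfl | rfl | rfl | rfl
        · exact Commute.one_left t
        · exact ht'.2.1.symm
        · exact ht'.2.2.symm
        · exact (show Commute a t from ht'.2.1.symm).mul_left ht'.2.2.symm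
      rw [this.eq, mul_inv_cancel_right]
    rw [Subgroup.mem_normalizer_iff_map_conj_eq]
    refine Subgroup.eq_of_le_of_card_ge ?_ (Subgroup.card_map_of_injective (MulEquiv.injective _)).ge
    rintro _ ⟨t, ht, rfl⟩
    show v * t * v⁻¹ ∈ T
    rw [hcomm t ht]; exact ht
  obtain ⟨P, hP, hTP, hVP⟩ := syl_invariant (p := 3) (four_isPGroup h.a2 h.b2 h.comm) (hG.odd f)
    (h.four_le hna hnb) (fun t ht => (hT.1 ht).1) hT.isPGroup hTV
  have hPa : a ∈ Subgroup.normalizer (P : Set (Perm α)) := hVP (Or.inr (Or.inl rfl))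
  have hPb : b ∈ Subgroup.normalizer (P : Set (Perm α)) := hVP (Or.inr (Or.inr (Or.inl rfl)))
  have hFx : Fx P = univ.map f := by
    refine (Finset.eq_of_subset_of_card_le (fun y hy => ?_) ?_).symm
    · obtain ⟨i, -, rfl⟩ := Finset.mem_map.mp hy
      exact base_mem_Fx hP i
    · rw [hfour f P hP, Finset.card_map, Finset.card_univ, Fintype.card_fin]
  have hPf : ∀ g ∈ P, ∀ i, g (f i) = f i := fun g hg => (hP.1 hg).2
  have hfix_ab : ∀ g ∈ P, ∀ y, y ∈ Pa a b ∨ y ∈ Pb a b → g y = y := by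
    intro g hg y hy
    rw [← Pa_eq, ← Pb_eq] at hy
    simp only [Finset.mem_insert, Finset.mem_singleton] at hy
    rcases hy with (rfl | rfl) | (rfl | rfl) <;> exact hPf g hg _
  have hnzR : z ∉ Rf a b := fun e => (mem_Rf.mp e).1 hza
  -- the orbit of the common fixed point
  set B : Finset α := univ.filter fun y => y ∈ orbit P z with hBdef
  have memB : ∀ {y}, y ∈ B ↔ y ∈ orbit P z := fun {y} => by simp [hBdef]
  have hzB : z ∈ B := memB.mpr (mem_orbit_self _)
  have aB : ∀ y ∈ B, a y ∈ B := fun y hy => memB.mpr (by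
    have := normalizer_orbit hPa (memB.mp hy); rwa [hza] at this)
  have bB : ∀ y ∈ B, b y ∈ B := fun y hy => memB.mpr (by
    have := normalizer_orbit hPb (memB.mp hy); rwa [hzb] at this)
  obtain ⟨i, hi⟩ := card_orbit_pow hP.isPGroup z
  have hBcard : B.card = 3 ^ i := by
    rw [← Set.ncard_coe_finset, ← hi]
    congr 1
    exact Set.ext fun y => memB
  have hB2 : 2 ≤ B.card := by
    have hz' : z ∉ Fx P := by
      rw [hFx]
      intro hm'
      obtain ⟨j, -, hj⟩ := Finset.mem_map.mp hm'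
      have hbb := mem_Zs.mp hzmem
      fin_cases j
      · exact (mem_Pb.mp m0).2 (hj ▸ hbb.1)
      · exact (mem_Pb.mp m1).2 (hj ▸ hbb.1)
      · exact (mem_Pa.mp m2).2 (hj ▸ hbb.2)
      · exact (mem_Pa.mp m3).2 (hj ▸ hbb.2)
    rw [mem_Fx] at hz'
    push Not at hz'
    obtain ⟨g, hg, hgz⟩ := hz'
    exact Finset.one_lt_card.mpr
      ⟨g z, memB.mpr (mem_orbit_sub.mpr ⟨g, hg, rfl⟩), z, hzB, hgz⟩
  have hBab : ∀ y ∈ B, y ∉ Pa a b ∧ y ∉ Pb a b := by
    intro y hy
    obtain ⟨g, hg, rfl⟩ := mem_orbit_sub.mp (memB.mp hy)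
    constructor
    · intro hm'
      have h1 := g.injective (hfix_ab g hg _ (Or.inl hm'))
      rw [h1] at hm'
      exact (mem_Pa.mp hm').2 hzb
    · intro hm'
      have h1 := g.injective (hfix_ab g hg _ (Or.inr hm'))
      rw [h1] at hm'
      exact (mem_Pb.mp hm').2 hza
  have hcover : ∀ y ∈ Rf a b, ∃ v ∈ four a b h.a2 h.b2 h.comm, ∃ t ∈ T, y = v (t x) := by
    intro y hy
    obtain ⟨v, hv, w, hw, rfl⟩ := h.Rf_cover hG hx hy
    have : w x ∈ orbit T x := hTorb ▸ mem_orbit_sub.mpr ⟨w, hw, rfl⟩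
    obtain ⟨t, ht, e⟩ := mem_orbit_sub.mp this
    exact ⟨v, hv, t, ht, by rw [e]⟩
  have vB : ∀ v ∈ four a b h.a2 h.b2 h.comm, ∀ y ∈ B, v y ∈ B := by
    rintro v (rfl | rfl | rfl | rfl) y hy
    exacts [hy, aB y hy, bB y hy, aB _ (bB y hy)]
  have hBR : ∀ y ∈ B, y ∉ Rf a b := by
    intro y hy hyR
    have hxB : x ∈ B := by
      obtain ⟨v, hv, t, ht, rfl⟩ := hcover y hyR
      have h1 := vB v⁻¹ (inv_mem hv) _ hy
      rw [Perm.inv_eq_iff_eq.mpr rfl] at h1
      have := mem_orbit_of_mem_orbit (⟨t⁻¹, inv_mem (hTP ht)⟩ : P) (memB.mp h1)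
      refine memB.mpr ?_
      convert this using 1
      show x = t⁻¹ (t x)
      simp
    have hall : B ∩ Rf a b = Rf a b := by
      refine Finset.inter_eq_right.mpr fun y' hy' => ?_
      obtain ⟨v, hv, t, ht, rfl⟩ := hcover y' hy'
      refine vB v hv _ (memB.mpr ?_)
      exact mem_orbit_of_mem_orbit (⟨t, hTP ht⟩ : P) (memB.mp hxB)
    have hsum := card_inter_classes a b B
    have ePa : B ∩ Pa a b = ∅ := Finset.eq_empty_of_forall_notMem fun y hy =>
      (hBab y (Finset.mem_inter.mp hy).1).1 (Finset.mem_inter.mp hy).2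
    have ePb : B ∩ Pb a b = ∅ := Finset.eq_empty_of_forall_notMem fun y hy =>
      (hBab y (Finset.mem_inter.mp hy).1).2 (Finset.mem_inter.mp hy).2
    have eZ : B ∩ Zs a b = {z} := by
      rw [hz, Finset.inter_singleton_of_mem hzB]
    have eC : Even (B ∩ Pc a b).card := even_card_of_invol h.a2 _
      (fun y hy => Finset.mem_inter.mpr ⟨aB y (Finset.mem_inter.mp hy).1,
        (cen_classes h.a_mem_Cen).2.2.2.1 (Finset.mem_inter.mp hy).2⟩)
      (fun y hy => (mem_Pc.mp (Finset.mem_inter.mp hy).2).2)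
    have lC : (B ∩ Pc a b).card ≤ 2 := cPc ▸ Finset.card_le_card Finset.inter_subset_right
    rw [hall, (h.card_Rf hG hx).1, hk, ePa, ePb, eZ, Finset.card_singleton, Finset.card_empty,
      hBcard] at hsum
    rw [Nat.even_iff] at eC
    obtain ⟨m', rfl⟩ : ∃ m', m = m' + 1 := ⟨m - 1, by omega⟩
    obtain ⟨i', rfl⟩ : ∃ i', i = i' + 1 := by
      refine ⟨i - 1, ?_⟩
      rcases Nat.eq_zero_or_pos i with rfl | hi0
      · rw [pow_zero] at hBcard; omega
      · omega
    rw [pow_succ, pow_succ] at hsum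
    have hpos : 1 ≤ 3 ^ m' := Nat.one_le_pow _ _ (by norm_num)
    rcases Nat.eq_zero_or_pos i' with rfl | hi0
    · rw [pow_zero] at hsum; omega
    obtain ⟨i'', rfl⟩ : ∃ i'', i' = i'' + 1 := ⟨i' - 1, by omega⟩
    rw [pow_succ] at hsum
    rcases Nat.eq_zero_or_pos m' with rfl | hm0
    · rw [pow_zero] at hsum
      omega
    obtain ⟨m'', rfl⟩ : ∃ m'', m' = m'' + 1 := ⟨m' - 1, by omega⟩
    rw [pow_succ] at hsum
    omega
  have hBsub : B ⊆ insert z (Pc a b) := by
    intro y hy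
    have h1 := hBab y hy
    have h2 := hBR y hy
    simp only [mem_Pa, mem_Pb, mem_Rf] at h1 h2
    rw [Finset.mem_insert, mem_Pc]
    by_cases hay : a y = y <;> by_cases hby : b y = y
    · left
      have : y ∈ Zs a b := mem_Zs.mpr ⟨hay, hby⟩
      rwa [hz, Finset.mem_singleton] at this
    · exact absurd ⟨hay, hby⟩ h1.1
    · exact absurd ⟨hby, hay⟩ h1.2
    · right
      exact ⟨by_contra fun hc => h2 ⟨hay, hby, hc⟩, hay⟩
  have hzPc : z ∉ Pc a b := fun e => (mem_Pc.mp e).2 hza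
  have hB3 : B.card = 3 := by
    have h1 := Finset.card_le_card hBsub
    rw [Finset.card_insert_of_notMem hzPc, cPc] at h1
    rcases Nat.eq_zero_or_pos i with rfl | hi0
    · rw [pow_zero] at hBcard; omega
    · have : 3 ^ 1 ≤ 3 ^ i := Nat.pow_le_pow_right (by norm_num) hi0
      omega
  have hBeq : B = insert z (Pc a b) := Finset.eq_of_subset_of_card_le hBsub
    (by rw [Finset.card_insert_of_notMem hzPc, cPc, hB3])
  -- the three-cycle
  have oddP : ∀ g ∈ P, g ^ Nat.card P = 1 := fun g hg => pow_card_eq_one_of_mem hg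
  have hPodd : Odd (Nat.card P) := (hG.odd f).of_dvd_nat (Subgroup.card_dvd_of_le hP.1)
  obtain ⟨s₀, hs₀, hs₀z⟩ := Finset.exists_mem_ne (s := B) (by omega) z
  obtain ⟨x₀, hx₀, hx₀z⟩ := mem_orbit_sub.mp (memB.mp hs₀)
  set s := x₀ z with hs
  set t := x₀ s with ht
  have memBP : ∀ g ∈ P, ∀ y ∈ B, g y ∈ B := fun g hg y hy =>
    memB.mpr (mem_orbit_of_mem_orbit (⟨g, hg⟩ : P) (memB.mp hy))
  have hsB : s ∈ B := memBP x₀ hx₀ z hzB
  have htB : t ∈ B := memBP x₀ hx₀ s hsB
  have hsz : s ≠ z := hx₀z ▸ hs₀z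
  have hts : t ≠ s := fun e => hsz (x₀.injective (ht ▸ e : x₀ s = x₀ z))
  have htz : t ≠ z := by
    intro e
    refine hsz (odd_fix_pair hPodd (oddP x₀ hx₀) (S := {z, s}) ?_ ?_ (Finset.mem_insert_self _ _))
    · rw [Finset.card_pair hsz.symm]
    · intro y hy
      rw [Finset.mem_insert, Finset.mem_singleton] at hy ⊢
      rcases hy with rfl | rfl
      · exact Or.inr rfl
      · exact Or.inl (ht ▸ e)
  have hBset : ({z, s, t} : Finset α) = B := Finset.eq_of_subset_of_card_le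
    (by simp [Finset.insert_subset_iff, hzB, hsB, htB])
    (by
      rw [hB3, Finset.card_insert_of_notMem (by simp [hsz.symm, htz.symm]),
        Finset.card_pair hts.symm])
  have hxt : x₀ t = z := by
    have := memBP x₀ hx₀ t htB
    rw [← hBset] at this
    simp only [Finset.mem_insert, Finset.mem_singleton] at this
    rcases this with e | e | e
    · exact e
    · exact absurd (x₀.injective (e.trans hs)) htz
    · exact absurd (x₀.injective (e.trans ht)) hts
  have hsC : s ∈ Pc a b := by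
    have := hBeq ▸ hsB
    exact (Finset.mem_insert.mp this).resolve_left hsz
  have htC : t ∈ Pc a b := by
    have := hBeq ▸ htB
    exact (Finset.mem_insert.mp this).resolve_left htz
  have Pc_eq : ({s, t} : Finset α) = Pc a b := Finset.eq_of_subset_of_card_le
    (by simp [Finset.insert_subset_iff, hsC, htC]) (by rw [cPc, Finset.card_pair hts.symm])
  have classes : ∀ y, y ∉ Rf a b →
      y = z ∨ y = f 0 ∨ y = f 1 ∨ y = f 2 ∨ y = f 3 ∨ y = s ∨ y = t := by
    intro y hy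
    have hy' : y ∈ Zs a b ∨ y ∈ Pa a b ∨ y ∈ Pb a b ∨ y ∈ Pc a b := by
      simp only [mem_Rf, mem_Zs, mem_Pa, mem_Pb, mem_Pc] at hy ⊢
      by_cases h1 : a y = y <;> by_cases h2 : b y = y <;> simp_all
    rw [hz, ← Pa_eq, ← Pb_eq, ← Pc_eq] at hy'
    simp only [Finset.mem_insert, Finset.mem_singleton] at hy'
    tauto
  have outside : ∀ g ∈ P, g z = z → ∀ y, y ∉ Rf a b → g y = y := by
    intro g hg hgz y hy
    have hPc : ∀ w ∈ Pc a b, g w = w := fun w hw =>
      odd_fix_pair hPodd (oddP g hg) (S := Pc a b) (by omega) (fun w' hw' => by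
        have := memBP g hg w' (hBeq ▸ Finset.mem_insert_of_mem hw')
        rw [hBeq, Finset.mem_insert] at this
        exact this.resolve_left fun e => hzPc (g.injective (e.trans hgz.symm) ▸ hw')) hw
    rcases classes y hy with rfl | rfl | rfl | rfl | rfl | rfl | rfl
    exacts [hgz, hPf g hg 0, hPf g hg 1, hPf g hg 2, hPf g hg 3, hPc _ hsC, hPc _ htC]
  -- the kernel on the orbit of `z`
  set T₂ : Subgroup (Perm α) := P ⊓ stabilizer (Perm α) z with hT₂def
  set Y := FixOff G (Rf a b) with hY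
  have hT₂Y : T₂ ≤ Y := fun g hg => ⟨(hP.1 hg.1).1, outside g hg.1 hg.2⟩
  have hYH : Y ≤ pS G f := by
    intro g hg
    refine ⟨hg.1, fun j => hg.2 _ ?_⟩
    fin_cases j
    · exact fun e => (mem_Rf.mp e).2.1 (mem_Pb.mp m0).1
    · exact fun e => (mem_Rf.mp e).2.1 (mem_Pb.mp m1).1
    · exact fun e => (mem_Rf.mp e).1 (mem_Pa.mp m2).1
    · exact fun e => (mem_Rf.mp e).1 (mem_Pa.mp m3).1
  have hT₂card : Nat.card P = 3 * Nat.card T₂ := by
    rw [← card_orbit_mul_fix P z, hi, ← hBcard, hB3]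
  have hT₂p : IsPGroup 3 T₂ := hP.isPGroup.to_le inf_le_left
  have hT₂syl : Syl 3 T₂ Y := by
    obtain ⟨Q, hQ⟩ := (hT₂p.of_equiv (Subgroup.subgroupOfEquivOfLe hT₂Y).symm).exists_le_sylow
    have hQ' := syl_of_sylow Q
    set Q₀ := (Q : Subgroup Y).map Y.subtype with hQ₀
    have hle : T₂ ≤ Q₀ := by
      have := Subgroup.map_mono (f := Y.subtype) hQ
      rwa [Subgroup.map_subgroupOf_eq_of_le hT₂Y] at this
    refine ⟨hT₂Y, ?_⟩
    rw [← hQ'.2]
    by_contra hne
    have hQH : Q₀ ≤ pS G f := (Subgroup.map_subtype_le _).trans hYH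
    obtain ⟨R', hR'⟩ :=
      (hQ'.isPGroup.of_equiv (Subgroup.subgroupOfEquivOfLe hQH).symm).exists_le_sylow
    have hR'' := syl_of_sylow R'
    set R₀ := (R' : Subgroup (pS G f)).map (pS G f).subtype with hR₀
    have hQR : Q₀ ≤ R₀ := by
      have := Subgroup.map_mono (f := (pS G f).subtype) hR'
      rwa [Subgroup.map_subgroupOf_eq_of_le hQH] at this
    obtain ⟨q, hq⟩ := IsPGroup.iff_card.mp hQ'.isPGroup
    obtain ⟨r, hr⟩ := IsPGroup.iff_card.mp hT₂p
    have hlt : r < q := by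
      by_contra hge
      have : 3 ^ q ≤ 3 ^ r := Nat.pow_le_pow_right (by norm_num) (by omega)
      have := Subgroup.card_le_of_le hle
      omega
    have h3 : 3 * 3 ^ r ≤ 3 ^ q := by
      rw [← pow_succ']; exact Nat.pow_le_pow_right (by norm_num) hlt
    have hPR : Nat.card P = Nat.card R₀ := hP.2.trans hR''.2.symm
    have heq : Q₀ = R₀ := Subgroup.eq_of_le_of_card_ge hQR (by omega)
    have hzf : z ∈ Fx R₀ := mem_Fx.mpr fun g hg => by
      obtain ⟨g', -, rfl⟩ := (heq ▸ hg : g ∈ Q₀)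
      exact g'.2.2 z hnzR
    have h5 : insert z (univ.map f) ⊆ Fx R₀ := by
      intro y hy
      rw [Finset.mem_insert] at hy
      rcases hy with rfl | hy
      · exact hzf
      · obtain ⟨j, -, rfl⟩ := Finset.mem_map.mp hy
        exact base_mem_Fx hR'' j
    have hzf' : z ∉ univ.map f := by
      intro hm'
      obtain ⟨j, -, hj⟩ := Finset.mem_map.mp hm'
      have hbb := mem_Zs.mp hzmem
      fin_cases j
      · exact (mem_Pb.mp m0).2 (hj ▸ hbb.1)
      · exact (mem_Pb.mp m1).2 (hj ▸ hbb.1)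
      · exact (mem_Pa.mp m2).2 (hj ▸ hbb.2)
      · exact (mem_Pa.mp m3).2 (hj ▸ hbb.2)
    have := Finset.card_le_card h5
    rw [Finset.card_insert_of_notMem hzf', Finset.card_map, Finset.card_univ, Fintype.card_fin,
      hfour f R₀ hR''] at this
    omega
  -- the normaliser of the kernel and its action on the four orbits
  set N' := Pres G (Rf a b) ⊓ Subgroup.normalizer (T₂ : Set (Perm α)) with hN'
  have nT₂ : ∀ g, g ∈ Subgroup.normalizer (P : Set (Perm α)) → g z = z →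
      g ∈ Subgroup.normalizer (T₂ : Set (Perm α)) := by
    intro g hg hgz
    rw [Subgroup.mem_normalizer_iff_map_conj_eq]
    refine Subgroup.eq_of_le_of_card_ge ?_ (Subgroup.card_map_of_injective (MulEquiv.injective _)).ge
    rintro _ ⟨k, hk, rfl⟩
    refine ⟨(Subgroup.mem_normalizer_iff.mp hg k).mp hk.1, ?_⟩
    show (g * k * g⁻¹) z = z
    have hgi : g⁻¹ z = z := by rw [Perm.inv_eq_iff_eq, hgz]
    rw [Perm.mul_apply, Perm.mul_apply, hgi, (show k z = z from hk.2), hgz]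
  have haN : a ∈ N' := ⟨⟨h.amem, fun y => ⟨fun hy => h.aa y ▸ h.Rf_a hy, h.Rf_a⟩⟩, nT₂ a hPa hza⟩
  have hbN : b ∈ N' := ⟨⟨h.bmem, fun y => ⟨fun hy => h.bb y ▸ h.Rf_b hy, h.Rf_b⟩⟩, nT₂ b hPb hzb⟩
  have hx₀N : x₀ ∈ N' := by
    refine ⟨⟨(hP.1 hx₀).1, ?_⟩, ?_⟩
    · have key : ∀ y, y ∉ Rf a b → x₀ y ∉ Rf a b := by
        intro y hy
        rcases classes y hy with rfl | rfl | rfl | rfl | rfl | rfl | rfl
        · exact hBR _ hsB
        · rw [hPf x₀ hx₀]; exact hy
        · rw [hPf x₀ hx₀]; exact hy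
        · rw [hPf x₀ hx₀]; exact hy
        · rw [hPf x₀ hx₀]; exact hy
        · exact hBR _ htB
        · rw [hxt]; exact hnzR
      have keyi : ∀ y, y ∉ Rf a b → ∃ y', y' ∉ Rf a b ∧ x₀ y' = y := by
        intro y hy
        rcases classes y hy with rfl | rfl | rfl | rfl | rfl | rfl | rfl
        · exact ⟨t, hBR _ htB, hxt⟩
        · exact ⟨_, hy, hPf x₀ hx₀ 0⟩
        · exact ⟨_, hy, hPf x₀ hx₀ 1⟩
        · exact ⟨_, hy, hPf x₀ hx₀ 2⟩
        · exact ⟨_, hy, hPf x₀ hx₀ 3⟩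
        · exact ⟨z, hnzR, rfl⟩
        · exact ⟨s, hBR _ hsB, rfl⟩
      intro y
      constructor
      · intro hy
        by_contra hy'
        exact key y hy' hy
      · intro hy
        by_contra hy'
        obtain ⟨y', hy'', e⟩ := keyi _ hy'
        exact hy'' (x₀.injective e ▸ hy)
    · refine Subgroup.mem_normalizer_iff_map_conj_eq.mpr ?_
      refine Subgroup.eq_of_le_of_card_ge ?_ (Subgroup.card_map_of_injective (MulEquiv.injective _)).ge
      rintro _ ⟨k, hk, rfl⟩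
      refine ⟨P.mul_mem (P.mul_mem hx₀ hk.1) (P.inv_mem hx₀), ?_⟩
      show (x₀ * k * x₀⁻¹) z = z
      rw [Perm.mul_apply, Perm.mul_apply, Perm.inv_eq_iff_eq.mpr hxt.symm,
        outside k hk.1 hk.2 t (hBR _ htB), hxt]
  obtain ⟨-, -, u, hu, -, -, -, hu1, hu2⟩ := h.exists_u hG 3 hx
  have huPres : u ∈ Pres G (Rf a b) := ⟨hu, h.u_Rf hu1 hu2⟩
  obtain ⟨y₀, hy₀, hy₀N⟩ := syl_frattini hT₂syl (pres_normalizes_fixOff huPres)
  set u' := y₀ * u with hu'def
  have hu'N : u' ∈ N' := ⟨mul_mem (fixOff_le_pres G _ hy₀) huPres, hy₀N⟩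
  have u'off : ∀ y, y ∉ Rf a b → u' y = u y := by
    intro y hy
    rw [hu'def, Perm.mul_apply]
    exact hy₀.2 _ fun e => hy ((h.u_Rf hu1 hu2 y).mp e)
  -- orbits of `T₂` on the free points
  let vv : Fin 4 → Perm α := ![1, a, b, a * b]
  have hvv : ∀ j, vv j ∈ four a b h.a2 h.b2 h.comm := by
    intro j; fin_cases j
    exacts [Or.inl rfl, Or.inr (Or.inl rfl), Or.inr (Or.inr (Or.inl rfl)),
      Or.inr (Or.inr (Or.inr rfl))]
  have hvvR : ∀ j, vv j x ∈ Rf a b := fun j =>
    (cen_classes (h.four_le h.a_mem_Cen h.b_mem_Cen (hvv j))).2.2.2.2 hx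
  have hTT₂ : T ≤ T₂ := fun g hg => ⟨hTP hg, h.W_fix hG (hT.1 hg) hnzR⟩
  have cover : ∀ y ∈ Rf a b, ∃ j, y ∈ orbit T₂ (vv j x) := by
    intro y hy
    obtain ⟨v, hv, t', ht', rfl⟩ := hcover y hy
    obtain ⟨j, rfl⟩ : ∃ j, v = vv j := by
      rcases hv with rfl | rfl | rfl | rfl
      exacts [⟨0, rfl⟩, ⟨1, rfl⟩, ⟨2, rfl⟩, ⟨3, rfl⟩]
    refine ⟨j, mem_orbit_sub.mpr ⟨t', hTT₂ ht', ?_⟩⟩
    have hc := mem_Cen.mp (hT.1 ht').2
    have : Commute t' (vv j) := by
      fin_cases j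
      exacts [Commute.one_right _, hc.2.1, hc.2.2,
        (show Commute t' a from hc.2.1).mul_right hc.2.2]
    rw [← Perm.mul_apply, this.eq, Perm.mul_apply]
  have hfourT₂ : ∀ v ∈ four a b h.a2 h.b2 h.comm, v ∈ Subgroup.normalizer (T₂ : Set (Perm α)) :=
    fun v hv => h.four_le haN.2 hbN.2 hv
  have unique : ∀ {y : α} {j k : Fin 4}, y ∈ orbit T₂ (vv j x) → y ∈ orbit T₂ (vv k x) → j = k := by
    intro y j k hj hk'
    have hjk : orbit T₂ (vv j x) = orbit T₂ (vv k x) :=
      (orbit_eq_iff.mpr hj).symm.trans (orbit_eq_iff.mpr hk')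
    by_contra hne
    set S : Finset α := univ.filter fun w => w ∈ orbit T₂ (vv j x) with hS
    have memS : ∀ {w}, w ∈ S ↔ w ∈ orbit T₂ (vv j x) := fun {w} => by simp [hS]
    set v := vv k * vv j with hv
    have hvmem : v ∈ four a b h.a2 h.b2 h.comm := mul_mem (hvv k) (hvv j)
    have hvinv : v * v = 1 := by
      rcases hvmem with e | e | e | e <;> rw [e]
      exacts [one_mul 1, h.a2, h.b2, h.c2]
    have hjj : ∀ w, vv j (vv j w) = w := by
      intro w; fin_cases j
      exacts [rfl, h.aa w, h.bb w, by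
        show a (b (a (b w))) = w
        rw [← h.ab, h.aa, h.bb]]
    have hvne : v ≠ 1 := by
      intro e
      apply hne
      have e' : vv k = vv j := by
        ext w
        have := congrArg (fun g : Perm α => g (vv j w)) e
        simpa [hv, hjj] using this.trans rfl
      refine ((h.orb hx).injective ?_).symm
      have := congrArg (fun g : Perm α => g x) e'
      fin_cases j <;> fin_cases k <;> exact this
    have hvj : v (vv j x) = vv k x := by rw [hv, Perm.mul_apply, hjj]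
    have hS' : ∀ w ∈ S, v w ∈ S := by
      intro w hw
      rw [memS, hjk, ← hvj]
      exact normalizer_orbit (hfourT₂ v hvmem) (memS.mp hw)
    have hfree : ∀ w ∈ S, v w ≠ w := by
      intro w hw e
      obtain ⟨g, hg, rfl⟩ := mem_orbit_sub.mp (memS.mp hw)
      have hwR : g (vv j x) ∈ Rf a b := ((fixOff_le_pres G _ (hT₂Y hg)).2 _).mpr (hvvR j)
      obtain ⟨r1, r2, r3⟩ := mem_Rf.mp hwR
      rcases hvmem with e' | e' | e' | e' <;> rw [e'] at e
      exacts [hvne e', r1 e, r2 e, r3 e]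
    have heven := even_card_of_invol hvinv S hS' hfree
    obtain ⟨l, hl⟩ := card_orbit_pow hT₂p (vv j x)
    have hScard : S.card = 3 ^ l := by
      rw [← Set.ncard_coe_finset, ← hl]
      congr 1
      exact Set.ext fun w => memS
    rw [hScard] at heven
    exact Nat.not_even_iff_odd.mpr ((by decide : Odd 3).pow) heven
  have hσ : ∀ g : N', ∀ j, ∃ k, (g : Perm α) (vv j x) ∈ orbit T₂ (vv k x) := fun g j =>
    cover _ ((g.2.1.2 _).mpr (hvvR j))
  choose σ hσ' using hσ
  have σmul : ∀ g g' : N', ∀ j, σ (g * g') j = σ g (σ g' j) := by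
    intro g g' j
    refine unique (hσ' (g * g') j) ?_
    have := normalizer_orbit g.2.2 (hσ' g' j)
    rwa [orbit_eq_iff.mpr (hσ' g (σ g' j))] at this
  have σone : ∀ j, σ 1 j = j := fun j => unique (hσ' 1 j) (mem_orbit_self _)
  let φ : N' →* Perm (Fin 4) :=
    { toFun := fun g => ⟨σ g, σ g⁻¹, fun j => by rw [← σmul, inv_mul_cancel, σone],
        fun j => by rw [← σmul, mul_inv_cancel, σone]⟩
      map_one' := Equiv.ext σone
      map_mul' := fun g g' => Equiv.ext fun j => σmul g g' j }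
  have φa : φ ⟨a, haN⟩ = swap 0 1 * swap 2 3 := Equiv.ext fun j => by
    refine unique (hσ' ⟨a, haN⟩ j) ?_
    have e : a (vv j x) = vv ((swap 0 1 * swap 2 3 : Perm (Fin 4)) j) x := by
      fin_cases j
      · rfl
      · show a (a x) = x; rw [h.aa]
      · rfl
      · show a (a (b x)) = b x; rw [h.aa]
    show a (vv j x) ∈ _
    rw [e]; exact mem_orbit_self _
  have φb : φ ⟨b, hbN⟩ = swap 0 2 * swap 1 3 := Equiv.ext fun j => by
    refine unique (hσ' ⟨b, hbN⟩ j) ?_
    have e : b (vv j x) = vv ((swap 0 2 * swap 1 3 : Perm (Fin 4)) j) x := by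
      fin_cases j
      · rfl
      · show b (a x) = a (b x); rw [h.ab]
      · show b (b x) = x; rw [h.bb]
      · show b (a (b x)) = a x; rw [← h.ab, h.bb]
    show b (vv j x) ∈ _
    rw [e]; exact mem_orbit_self _
  have hYodd : Odd (Nat.card Y) := (hG.odd f).of_dvd_nat (Subgroup.card_dvd_of_le hYH)
  have cube : ∀ g : N', (g : Perm α) ∈ Y → φ g ^ 3 = 1 := by
    intro g hg
    refine perm_four_cube hYodd ?_
    rw [← map_pow]
    have : g ^ Nat.card Y = 1 := Subtype.ext (pow_card_eq_one_of_mem hg)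
    rw [this, map_one]
  have kill : ∀ g : N', (g : Perm α) ∈ Y → φ g = 1 := by
    intro g hg
    have conjY : ∀ v : N', ((v * g * v * g⁻¹ : N') : Perm α) ∈ Y ∨ ¬ (v : Perm α) * v = 1 := by
      intro v
      by_cases hv : (v : Perm α) * v = 1
      · left
        have hvi : (v : Perm α)⁻¹ = v := inv_eq_of_mul_eq_one_right hv
        have h1 : (MulAut.conj (v : Perm α)).toMonoidHom (g : Perm α) ∈ Y := by
          rw [hY, ← pres_normalizes_fixOff v.2.1]
          exact Subgroup.mem_map_of_mem _ hg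
        show (v : Perm α) * g * v * (g : Perm α)⁻¹ ∈ Y
        refine Y.mul_mem ?_ (Y.inv_mem hg)
        simpa [hvi] using h1
      · exact Or.inr hv
    refine perm_four_kill _ (cube g hg) ?_ ?_
    · rw [← φa, ← map_inv, ← map_mul, ← map_mul, ← map_mul]
      exact cube _ ((conjY ⟨a, haN⟩).resolve_right (not_not.mpr h.a2))
    · rw [← φb, ← map_inv, ← map_mul, ← map_mul, ← map_mul]
      exact cube _ ((conjY ⟨b, hbN⟩).resolve_right (not_not.mpr h.b2))
  -- the action on five of the seven remaining points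
  set p' := u' s with hp'
  set q' := u' t with hq'
  have hp'A : p' ∈ Pa a b := by
    rw [hp', u'off s (hBR _ hsB)]; exact h.u_Pc hu1 hu2 hsC
  have hq'A : q' ∈ Pa a b := by
    rw [hq', u'off t (hBR _ htB)]; exact h.u_Pc hu1 hu2 htC
  have hpq : p' ≠ q' := fun e => hts (u'.injective e).symm
  have hu'z : u' z = z := by
    rw [u'off z hnzR]
    have := h.u_Zs hu1 hu2 hzmem
    rwa [hz, Finset.mem_singleton] at this
  have onto : ∀ {S S' : Finset α}, S.card = 2 → S'.card = 2 → (∀ y ∈ S, u y ∈ S') →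
      ∀ y' ∈ S', ∃ y ∈ S, u y = y' := by
    intro S S' hS hS' hmap y' hy'
    have : S.image u = S' := Finset.eq_of_subset_of_card_le
      (Finset.image_subset_iff.mpr hmap)
      (by rw [Finset.card_image_of_injective _ u.injective, hS, hS'])
    exact Finset.mem_image.mp (this ▸ hy')
  have offA : ∀ {y}, y ∈ Pa a b → y ∉ Rf a b := fun hy e => (mem_Rf.mp e).1 (mem_Pa.mp hy).1
  have offB : ∀ {y}, y ∈ Pb a b → y ∉ Rf a b := fun hy e => (mem_Rf.mp e).2.1 (mem_Pb.mp hy).1
  set x₁ := u' * x₀ * u'⁻¹ with hx₁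
  have hx₁N : x₁ ∈ N' := mul_mem (mul_mem hu'N hx₀N) (inv_mem hu'N)
  have conjfix : ∀ y' y, u' y' = y → x₀ y' = y' → x₁ y = y := by
    intro y' y e e'
    rw [hx₁, Perm.mul_apply, Perm.mul_apply, Perm.inv_eq_iff_eq.mpr e.symm, e', e]
  have x₁fixC : ∀ y ∈ Pc a b, x₁ y = y := fun y hy => by
    obtain ⟨y', hy', e⟩ := onto cPb cPc (fun w hw => h.u_Pb hu1 hu2 hw) y hy
    exact conjfix y' y (by rw [u'off y' (offB hy'), e]) (hfix_ab x₀ hx₀ y' (Or.inr hy'))
  have x₁fixB : ∀ y ∈ Pb a b, x₁ y = y := fun y hy => by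
    obtain ⟨y', hy', e⟩ := onto cPa cPb (fun w hw => h.u_Pa hu1 hu2 hw) y hy
    exact conjfix y' y (by rw [u'off y' (offA hy'), e]) (hfix_ab x₀ hx₀ y' (Or.inl hy'))
  have hx₁z : x₁ z = p' := by
    rw [hx₁, Perm.mul_apply, Perm.mul_apply, Perm.inv_eq_iff_eq.mpr hu'z.symm]
  have hx₁p : x₁ p' = q' := by
    rw [hx₁, Perm.mul_apply, Perm.mul_apply, Perm.inv_eq_iff_eq.mpr (rfl : p' = u' s)]
  have hx₁q : x₁ q' = z := by
    rw [hx₁, Perm.mul_apply, Perm.mul_apply, Perm.inv_eq_iff_eq.mpr (rfl : q' = u' t), hxt, hu'z]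
  have PA_eq : ({p', q'} : Finset α) = Pa a b := Finset.eq_of_subset_of_card_le
    (by simp [Finset.insert_subset_iff, hp'A, hq'A]) (by rw [cPa, Finset.card_pair hpq])
  let e5 : Fin 5 → α := ![z, s, t, p', q']
  let Act : N' → Perm (Fin 5) → Prop := fun g π =>
    Lab e5 (g : Perm α) π ∧ (g : Perm α) (f 0) = f 0 ∧ (g : Perm α) (f 1) = f 1
  have actMul : ∀ {g g' : N'} {π π' : Perm (Fin 5)}, Act g π → Act g' π' → Act (g * g') (π * π') :=
    fun {g g' π π'} hg hg' => ⟨hg.1.mul hg'.1,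
      by show (g : Perm α) ((g' : Perm α) (f 0)) = f 0; rw [hg'.2.1, hg.2.1],
      by show (g : Perm α) ((g' : Perm α) (f 1)) = f 1; rw [hg'.2.2, hg.2.2]⟩
  have actInv : ∀ {g : N'} {π : Perm (Fin 5)}, Act g π → Act g⁻¹ π⁻¹ := fun {g π} hg =>
    ⟨hg.1.inv,
      by show (g : Perm α)⁻¹ (f 0) = f 0; rw [Perm.inv_eq_iff_eq, hg.2.1],
      by show (g : Perm α)⁻¹ (f 1) = f 1; rw [Perm.inv_eq_iff_eq, hg.2.2]⟩
  have actTriv : ∀ {g : N'}, Act g 1 → φ g = 1 := by
    intro g hg
    refine kill g ⟨g.2.1.1, fun y hy => ?_⟩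
    rcases classes y hy with rfl | rfl | rfl | hy' | hy' | rfl | rfl
    · exact hg.1 0
    · exact hg.2.1
    · exact hg.2.2
    · have : y ∈ ({p', q'} : Finset α) := by rw [PA_eq, hy']; exact m2
      rw [Finset.mem_insert, Finset.mem_singleton] at this
      rcases this with rfl | rfl
      exacts [hg.1 3, hg.1 4]
    · have : y ∈ ({p', q'} : Finset α) := by rw [PA_eq, hy']; exact m3
      rw [Finset.mem_insert, Finset.mem_singleton] at this
      rcases this with rfl | rfl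
      exacts [hg.1 3, hg.1 4]
    · exact hg.1 1
    · exact hg.1 2
  set sx : Perm (Fin 5) := swap 0 1 * swap 1 2 with hsx
  set sy : Perm (Fin 5) := swap 0 3 * swap 3 4 with hsy
  set sb : Perm (Fin 5) := swap 1 2 * swap 3 4 with hsb
  have hpA : ∀ g ∈ P, g p' = p' := fun g hg => hfix_ab g hg _ (Or.inl hp'A)
  have hqA : ∀ g ∈ P, g q' = q' := fun g hg => hfix_ab g hg _ (Or.inl hq'A)
  have actX : Act ⟨x₀, hx₀N⟩ sx := by
    refine ⟨fun j => ?_, hPf x₀ hx₀ 0, hPf x₀ hx₀ 1⟩
    fin_cases j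
    · rfl
    · rfl
    · exact hxt
    · exact hpA x₀ hx₀
    · exact hqA x₀ hx₀
  have actY : Act ⟨x₁, hx₁N⟩ sy := by
    refine ⟨fun j => ?_, x₁fixB _ m0, x₁fixB _ m1⟩
    fin_cases j
    · exact hx₁z
    · exact x₁fixC s hsC
    · exact x₁fixC t htC
    · exact hx₁p
    · exact hx₁q
  have bswap : ∀ {p q : α}, ({p, q} : Finset α) = Pc a b ∨ ({p, q} : Finset α) = Pa a b →
      b p = q := by
    intro p q hpq'
    rcases hpq' with e | e
    · have hp : p ∈ Pc a b := e ▸ Finset.mem_insert_self _ _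
      have hbp : b p ∈ Pc a b := (cen_classes h.b_mem_Cen).2.2.2.1 hp
      rw [← e, Finset.mem_insert, Finset.mem_singleton] at hbp
      refine hbp.resolve_left fun e' => (mem_Pc.mp hp).2 ?_
      have := (mem_Pc.mp hp).1
      rwa [e'] at this
    · have hp : p ∈ Pa a b := e ▸ Finset.mem_insert_self _ _
      have hbp : b p ∈ Pa a b := (cen_classes h.b_mem_Cen).2.1 hp
      rw [← e, Finset.mem_insert, Finset.mem_singleton] at hbp
      exact hbp.resolve_left (mem_Pa.mp hp).2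
  have actB : Act ⟨b, hbN⟩ sb := by
    refine ⟨fun j => ?_, h.lb 0, h.lb 1⟩
    fin_cases j
    · exact hzb
    · exact bswap (Or.inl Pc_eq)
    · exact bswap (Or.inl ((Finset.pair_comm t s).trans Pc_eq))
    · exact bswap (Or.inr PA_eq)
    · exact bswap (Or.inr ((Finset.pair_comm q' p').trans PA_eq))
  set X : N' := ⟨x₀, hx₀N⟩
  set X' : N' := ⟨x₁, hx₁N⟩
  have pow5 : ∀ {g : N'} {π : Perm (Fin 5)}, Act g π → π ^ 5 = 1 → φ g = 1 := by
    intro g π hg hπ
    apply perm_four_five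
    rw [← map_pow]
    apply actTriv
    have h2 := actMul (actMul (actMul (actMul hg hg) hg) hg) hg
    rw [← pow_two, ← pow_succ, ← pow_succ, ← pow_succ] at h2
    rw [← pow_two, ← pow_succ, ← pow_succ, ← pow_succ] at h2
    rwa [hπ] at h2
  have e1 : φ X * φ X' = 1 := by
    rw [← map_mul]
    exact pow5 (actMul actX actY) (by rw [hsx, hsy]; decide)
  have e2 : φ X * (φ X')⁻¹ = 1 := by
    rw [← map_inv, ← map_mul]
    exact pow5 (actMul actX (actInv actY)) (by rw [hsx, hsy]; decide)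
  have e3 : φ X ^ 3 = 1 := by
    rw [← map_pow]
    apply actTriv
    have h2 := actMul (actMul actX actX) actX
    rw [← pow_two, ← pow_succ] at h2
    rw [← pow_two, ← pow_succ] at h2
    rwa [show sx ^ (2 + 1) = 1 by rw [hsx]; decide] at h2
  have hX : φ X = 1 := by
    have hinv : φ X' = φ X := (mul_inv_eq_one.mp e2).symm
    rw [hinv] at e1
    rw [pow_succ, pow_two, e1, one_mul] at e3
    exact e3
  have hX' : φ X' = 1 := by rw [hX, one_mul] at e1; exact e1
  have hw := actMul actB (actInv (actMul (actMul (actMul (actMul (actMul actX actY) (actInv actX))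
    (actInv actY)) actX) actY))
  have hfin := actTriv (by
    rw [show sb * (sx * sy * sx⁻¹ * sy⁻¹ * sx * sy)⁻¹ = 1 by rw [hsx, hsy, hsb]; decide] at hw
    exact hw)
  rw [map_mul, map_inv, map_mul, map_mul, map_mul, map_mul, map_mul, map_inv, map_inv, hX, hX',
    φb] at hfin
  exact absurd hfin (by decide)

end Pair

end Cfsg.Agent.OddFour
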