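/-
Four-transitive groups with a four-point stabiliser of odd order (M. Hall).

* `degree` : the degree is `4`, `5`, `6`, `7` or `11`
* `stab_eleven` : in degree `11` the four-point stabiliser is trivial
* `classify` : the groups
-/
import Cfsg.Agent.Lib.OddFour.ThreePower
import Cfsg.Agent.Lib.Perm.SharpDegrees

set_option autoImplicit false
set_option linter.unusedSectionVars false

open Equiv MulAction Finset

namespace Cfsg.Agent.OddFour

universe v

variable {α : Type*} [Fintype α] [DecidableEq α] {G : Subgroup (Perm α)}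

theorem Hyp.multiply (hG : Hyp G) : IsMultiplyPretransitive G α 4 := by
  rw [isMultiplyPretransitive_iff]
  intro f f'
  obtain ⟨g, hg, hgf⟩ := hG.trans f f'
  exact ⟨⟨g, hg⟩, Function.Embedding.ext hgf⟩

theorem stabilizer_equiv_pS (f : Fin 4 ↪ α) :
    Nat.card (stabilizer G f) = Nat.card (pS G f) :=
  Nat.card_congr
    { toFun := fun g => ⟨(g.1 : Perm α), g.1.2, fun i => congrArg (fun e : Fin 4 ↪ α => e i) g.2⟩
      invFun := fun g => ⟨⟨g.1, g.2.1⟩, Function.Embedding.ext g.2.2⟩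
      left_inv := fun _ => rfl
      right_inv := fun _ => rfl }

theorem card_group (hG : Hyp G) (f : Fin 4 ↪ α) :
    Nat.card G = (Fintype.card α).descFactorial 4 * Nat.card (pS G f) := by
  have horb : orbit G f = Set.univ := Set.eq_univ_of_forall fun e => by
    obtain ⟨g, hg, hge⟩ := hG.trans f e
    exact ⟨⟨g, hg⟩, Function.Embedding.ext hge⟩
  have hidx : (stabilizer G f).index = (Set.univ : Set (Fin 4 ↪ α)).ncard :=
    (MulAction.index_stabilizer (G := G) (x := f)).trans (congrArg Set.ncard horb)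
  rw [Set.ncard_univ, Nat.card_eq_fintype_card (α := Fin 4 ↪ α), Fintype.card_embedding_eq,
    Fintype.card_fin] at hidx
  rw [← stabilizer_equiv_pS, ← (stabilizer G f).index_mul_card, hidx]

theorem sharp_list (hG : Hyp G) {f : Fin 4 ↪ α} (h1 : Nat.card (pS G f) = 1) :
    Fintype.card α = 4 ∨ Fintype.card α = 5 ∨ Fintype.card α = 6 ∨ Fintype.card α = 11 := by
  have h4 : 4 ≤ Fintype.card α := by simpa using Fintype.card_le_of_embedding f
  rw [← Nat.card_eq_fintype_card] at h4 ⊢
  refine Perm.sharply_four_degree hG.multiply (fun e => ?_) h4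
  apply Subgroup.eq_bot_of_card_eq
  exact (stabilizer_equiv_pS e).trans ((card_pS_eq hG e f).trans h1)

namespace Pair

variable {f : Fin 4 ↪ α} {a b : Perm α}

theorem card_univ_eq (h : Pair G f a b) (hG : Hyp G) :
    Fintype.card α = Fintype.card α % 2 + 4 + (Pc a b).card + (Rf a b).card := by
  have := card_inter_classes a b (univ : Finset α)
  simp only [Finset.univ_inter, Finset.card_univ, h.card_Pa hG, h.card_Pb hG, h.card_Zs hG] at this
  omega

/-- An invariant Sylow subgroup at a free orbit and the possible numbers of its fixed points. -/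
theorem step (h : Pair G f a b) (hG : Hyp G)
    (IH : ∀ (o : Fin 4 ↪ α) (p : ℕ) (P : Subgroup (Perm α)), p.Prime → Syl p P (pS G o) →
      (Fx P).card < Fintype.card α → (Fx P).card ∈ ({4, 5, 6, 7, 11} : Set ℕ))
    {x : α} (hx : x ∈ Rf a b) {p : ℕ} [Fact p.Prime] (hp : p ∣ Nat.card (pS G f)) :
    ∃ P, Syl p P (pS G (h.orb hx)) ∧ ∃ u, a ∈ Subgroup.normalizer (P : Set (Perm α)) ∧
      b ∈ Subgroup.normalizer (P : Set (Perm α)) ∧ u ∈ Subgroup.normalizer (P : Set (Perm α)) ∧
      u * a * u⁻¹ = b ∧ u * b * u⁻¹ = a * b ∧ p ≠ 2 ∧ (Fx P).card < Fintype.card α ∧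
      Fintype.card α ≡ (Fx P).card [MOD p] ∧
      ((Fx P).card = 4 ∨ ((Fx P).card = 5 ∧ Zs a b ⊆ Fx P ∧ Fintype.card α % 2 = 1) ∨
        ((Fx P).card = 11 ∧ Fintype.card α % 2 = 1)) := by
  obtain ⟨P, hP, u, -, huP, haP, hbP, h1, h2⟩ := h.exists_u hG p hx
  have hp' : p ∣ Nat.card (pS G (h.orb hx)) := card_pS_eq hG f (h.orb hx) ▸ hp
  have hlt := Fx_lt hP hp'
  obtain ⟨e, j, he, hj, hz, hc⟩ := h.fix_card hG hx (Fx P) (base_mem_Fx hP 0)
    (fun y hy => apply_mem_Fx haP hy) (fun y hy => apply_mem_Fx hbP hy) h1 h2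
    (fun y hy => apply_mem_Fx huP hy)
  have hp2 : p ≠ 2 := by
    rintro rfl
    exact Nat.not_even_iff_odd.mpr (hG.odd f) (even_iff_two_dvd.mpr hp)
  refine ⟨P, hP, u, haP, hbP, huP, h1, h2, hp2, hlt, card_modEq_Fx hP.isPGroup, ?_⟩
  have hsub : (Fx P ∩ Zs a b).card = 1 → Zs a b ⊆ Fx P := fun h1' => by
    refine Finset.inter_eq_right.mp (Finset.eq_of_subset_of_card_le Finset.inter_subset_right ?_)
    rw [h.card_Zs hG, h1']
    omega
  have := IH _ p P Fact.out hP hlt
  simp only [Set.mem_insert_iff, Set.mem_singleton_iff] at this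
  rcases this with e' | e' | e' | e' | e'
  · exact Or.inl e'
  · exact Or.inr (Or.inl ⟨e', hsub (by omega), by omega⟩)
  · omega
  · omega
  · exact Or.inr (Or.inr ⟨e', by omega⟩)

/-- With one free orbit, no Sylow subgroup there fixes just that orbit, unless `n = 11` and `p = 7`;
then it is excluded as well. -/
theorem one_orbit (h : Pair G f a b) (hG : Hyp G)
    (IH : ∀ (o : Fin 4 ↪ α) (p : ℕ) (P : Subgroup (Perm α)), p.Prime → Syl p P (pS G o) →
      (Fx P).card < Fintype.card α → (Fx P).card ∈ ({4, 5, 6, 7, 11} : Set ℕ))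
    {x : α} (hx : x ∈ Rf a b) (hR : (Rf a b).card = 4) : Nat.card (pS G f) = 1 := by
  classical
  by_contra hne
  obtain ⟨p, hp, hpd⟩ := Nat.exists_prime_and_dvd hne
  have := Fact.mk hp
  obtain ⟨P, hP, u, haP, hbP, huP, h1, h2, hp2, hlt, hmod, hD⟩ := h.step hG IH hx hpd
  have hn := h.card_univ_eq hG
  have cPc := h.card_Pc hG hx
  set o := h.orb hx
  have ho : univ.map o = Rf a b := Finset.eq_of_subset_of_card_le (fun y hy => by
      obtain ⟨i, -, rfl⟩ := Finset.mem_map.mp hy
      fin_cases i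
      exacts [hx, h.Rf_a hx, h.Rf_b hx, h.Rf_a (h.Rf_b hx)])
    (by rw [Finset.card_map, Finset.card_univ, Fintype.card_fin, hR])
  have hRP : ∀ y ∈ Rf a b, y ∈ Fx P := fun y hy => by
    rw [← ho] at hy
    obtain ⟨i, -, rfl⟩ := Finset.mem_map.mp hy
    exact base_mem_Fx hP i
  obtain ⟨-, -, -, hZ, m0, -, m2, -, -⟩ := h.Zs_Pa hG
  have h0 : f 0 ∉ Fx P := by
    intro h0
    have hsub : insert (f 0) (Rf a b) ⊆ Fx P := Finset.insert_subset_iff.mpr ⟨h0, hRP⟩
    have h0R : f 0 ∉ Rf a b := fun e => (mem_Rf.mp e).2.1 (mem_Pb.mp m0).1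
    have hc := Finset.card_le_card hsub
    rw [Finset.card_insert_of_notMem h0R, hR] at hc
    rcases hD with e | ⟨e, hz, hodd⟩ | ⟨e, hodd⟩
    · omega
    · obtain ⟨z, hz'⟩ := Finset.card_eq_one.mp (hZ.trans hodd)
      have hzZ : z ∈ Zs a b := hz' ▸ Finset.mem_singleton_self z
      have hz0 : z ∉ insert (f 0) (Rf a b) := by
        rw [Finset.mem_insert]
        rintro (rfl | hzR)
        · exact (mem_Pb.mp m0).2 (mem_Zs.mp hzZ).1
        · exact (mem_Rf.mp hzR).1 (mem_Zs.mp hzZ).1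
      have hc' := Finset.card_le_card (Finset.insert_subset_iff.mpr ⟨hz hzZ, hsub⟩)
      rw [Finset.card_insert_of_notMem hz0, Finset.card_insert_of_notMem h0R, hR] at hc'
      omega
    · omega
  obtain ⟨z, hzZ, hzorb⟩ := h.orbit_class hG hp2 hP.isPGroup haP hbP hRP h0
  have hzfix : z ∈ Fx P → False := fun hzF => by
    obtain ⟨g, hg, hgz⟩ := mem_orbit_sub.mp hzorb
    have : g (f 0) = g z := by rw [hgz, mem_Fx.mp hzF g hg]
    exact h0 (g.injective this ▸ hzF)
  rcases hD with e | ⟨-, hz, -⟩ | ⟨e, -⟩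
  · -- `n = 11`, `p = 7`
    have hodd : Fintype.card α % 2 = 1 := by
      have : 0 < (Zs a b).card := Finset.card_pos.mpr ⟨z, hzZ⟩
      rw [hZ] at this
      omega
    have h11 : Fintype.card α = 11 := by omega
    obtain rfl : p = 7 := by
      rw [h11, e] at hmod
      have h7 : p ∣ 7 := (Nat.modEq_iff_dvd' (by norm_num : 4 ≤ 11)).mp hmod.symm
      exact (Nat.prime_dvd_prime_iff_eq hp (by norm_num)).mp h7
    -- the point stabiliser in `P` is trivial
    have hz7 : ∀ g ∈ P, g z = z → g = 1 := by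
      intro g hg hgz
      have hsupp : g.support.card < 7 := by
        have hsub : g.support ⊆ univ \ insert z (Rf a b) := by
          intro y hy
          refine Finset.mem_sdiff.mpr ⟨Finset.mem_univ _, fun hy' => Perm.mem_support.mp hy ?_⟩
          rcases Finset.mem_insert.mp hy' with rfl | hy'
          · exact hgz
          · exact mem_Fx.mp (hRP y hy') g hg
        have hc := Finset.card_le_card hsub
        have hzR : z ∉ Rf a b := fun e' => (mem_Rf.mp e').1 (mem_Zs.mp hzZ).1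
        rw [Finset.card_univ_sdiff, Finset.card_insert_of_notMem hzR, hR, h11] at hc
        omega
      obtain ⟨k, hk⟩ := hP.isPGroup ⟨g, hg⟩
      have hord : orderOf g ∣ 7 ^ k := orderOf_dvd_of_pow_eq_one (congrArg Subtype.val hk)
      by_contra hg1
      obtain ⟨c, hc⟩ := Multiset.exists_mem_of_ne_zero (mt Perm.cycleType_eq_zero.mp hg1)
      obtain ⟨l, -, rfl⟩ :=
        (Nat.dvd_prime_pow (by norm_num)).mp ((Perm.dvd_of_mem_cycleType hc).trans hord)
      have h2c := Perm.two_le_of_mem_cycleType hc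
      have hl : 7 ≤ 7 ^ l := Nat.le_self_pow (by rintro rfl; norm_num at h2c) 7
      have := Multiset.le_sum_of_mem hc
      rw [Perm.sum_cycleType] at this
      omega
    -- so `P` has order seven
    have hcard : Nat.card P = 7 := by
      obtain ⟨i, hi⟩ := IsPGroup.iff_card.mp hP.isPGroup
      have horb := card_orbit_mul_fix P z
      rw [show Nat.card ↥(P ⊓ stabilizer (Perm α) z) = 1 from by
        rw [Subgroup.card_eq_one, Subgroup.eq_bot_iff_forall]
        exact fun g hg => hz7 g hg.1 hg.2, mul_one] at horb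
      have hle : (orbit P z).ncard ≤ 7 := by
        have hsub : orbit P z ⊆ ((univ \ Rf a b : Finset α) : Set α) := fun y hy => by
          obtain ⟨g, hg, rfl⟩ := mem_orbit_sub.mp hy
          rw [Finset.coe_sdiff, Finset.coe_univ]
          refine ⟨trivial, fun hy' => ?_⟩
          have := g.injective (mem_Fx.mp (hRP _ hy') g hg)
          rw [this] at hy'
          exact (mem_Rf.mp hy').1 (mem_Zs.mp hzZ).1
        have := Set.ncard_le_ncard hsub (Set.toFinite _)
        rw [Set.ncard_coe_finset, Finset.card_univ_sdiff, hR, h11] at this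
        exact this
      rw [horb, hi] at hle
      have hi1 : i ≤ 1 := by
        by_contra hlt'
        have : 7 ^ 2 ≤ 7 ^ i := Nat.pow_le_pow_right (by norm_num) (by omega)
        omega
      rcases Nat.le_one_iff_eq_zero_or_eq_one.mp hi1 with rfl | rfl
      · exfalso
        rw [pow_zero] at hi
        have hbot := Subgroup.eq_bot_of_card_eq P hi
        exact h0 (mem_Fx.mpr fun g hg => by rw [hbot, Subgroup.mem_bot] at hg; rw [hg]; rfl)
      · rw [hi, pow_one]
    obtain ⟨g, hg⟩ := (isCyclic_of_prime_card hcard).exists_ofOrder_eq_natCard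
    have hgen : ∀ k ∈ P, ∃ i : ℕ, k = (g : Perm α) ^ i := by
      intro k hk
      have : (⟨k, hk⟩ : P) ∈ Subgroup.zpowers g := by
        rw [show Subgroup.zpowers g = ⊤ from Subgroup.eq_top_of_card_eq _
          (by rw [Nat.card_zpowers, hg])]
        exact Subgroup.mem_top _
      obtain ⟨i, hi⟩ := mem_powers_iff_mem_zpowers.mpr this
      exact ⟨i, (congrArg Subtype.val hi).symm⟩
    obtain ⟨j, hj⟩ := hgen _ ((Subgroup.mem_normalizer_iff.mp haP _).mp g.2)
    obtain ⟨i, hi⟩ := hgen _ ((Subgroup.mem_normalizer_iff''.mp huP _).mp g.2)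
    obtain ⟨i', hi'⟩ := hgen _ ((Subgroup.mem_normalizer_iff.mp huP _).mp g.2)
    obtain ⟨j', hj'⟩ := hgen _ ((Subgroup.mem_normalizer_iff.mp hbP _).mp g.2)
    set x₀ : Perm α := (g : Perm α)
    have conjp : ∀ (v : Perm α) (k : ℕ), v * x₀ ^ k * v⁻¹ = (v * x₀ * v⁻¹) ^ k := fun v k => conj_pow.symm
    have huxi : u * x₀ ^ i * u⁻¹ = x₀ := by rw [← hi]; group
    have hcj : ∀ v k, v * x₀ * v⁻¹ = x₀ ^ k → (u * v * u⁻¹) * x₀ * (u * v * u⁻¹)⁻¹ = x₀ ^ k := by
      intro v k hv
      rw [show u * v * u⁻¹ * x₀ * (u * v * u⁻¹)⁻¹ = u * (v * (u⁻¹ * x₀ * u) * v⁻¹) * u⁻¹ by group,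
        hi, conjp v, hv, ← pow_mul, mul_comm, pow_mul, ← conj_pow, huxi]
    have hbj : b * x₀ * b⁻¹ = x₀ ^ j := h1 ▸ hcj a j hj
    have hcjj : (a * b) * x₀ * (a * b)⁻¹ = x₀ ^ j := h2 ▸ hcj b j hbj
    have hcjj' : x₀ ^ (j * j) = x₀ ^ j := by
      rw [← hcjj, show a * b * x₀ * (a * b)⁻¹ = a * (b * x₀ * b⁻¹) * a⁻¹ by group, hbj, conjp, hj,
        pow_mul]
    have hjj : x₀ ^ (j * j) = x₀ := by
      rw [pow_mul, ← hj, ← conjp, ← hj, inv_eq_of_mul_eq_one_right h.a2,
        show a * (a * x₀ * a) * a = (a * a) * x₀ * (a * a) by group, h.a2, one_mul, mul_one]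
    have hfixj : x₀ ^ j = x₀ := hcjj'.symm.trans hjj
    rw [hfixj] at hj hbj
    have hC : x₀ ∈ Cen G a b := mem_Cen.mpr ⟨(hP.1 g.2).1,
      (mul_inv_eq_iff_eq_mul.mp hj).symm, (mul_inv_eq_iff_eq_mul.mp hbj).symm⟩
    apply hzfix
    refine mem_Fx.mpr fun k hk => ?_
    obtain ⟨l, rfl⟩ := hgen k hk
    refine Perm.pow_apply_eq_self_of_apply_eq_self ?_ l
    have hz1 : (Zs a b).card ≤ 2 := by omega
    exact odd_fix_pair (N := 7) (by decide)
      (hcard ▸ pow_card_eq_one_of_mem g.2) hz1 (fun y hy => (cen_classes hC).1 hy) hzZ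
  · exact hzfix (hz hzZ)
  · have := Finset.card_le_univ (Zs a b)
    omega

end Pair

theorem degree_aux : ∀ (n : ℕ) (β : Type v) [Fintype β] [DecidableEq β] (H : Subgroup (Perm β)),
    Fintype.card β = n → Hyp H → Nonempty (Fin 4 ↪ β) → n ∈ ({4, 5, 6, 7, 11} : Set ℕ) := by
  intro n
  induction n using Nat.strong_induction_on with
  | _ n ih =>
    intro β _ _ H hn hH hne
    obtain ⟨f⟩ := hne
    have IH : ∀ (o : Fin 4 ↪ β) (p : ℕ) (P : Subgroup (Perm β)), p.Prime → Syl p P (pS H o) →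
        (Fx P).card < Fintype.card β → (Fx P).card ∈ ({4, 5, 6, 7, 11} : Set ℕ) := by
      intro o p P hp hP hlt
      have := Fact.mk hp
      obtain ⟨H', hH', hne'⟩ := exists_induced hH hP
      refine ih _ (hn ▸ hlt) _ H' ?_ hH' hne'
      rw [Fintype.card_coe]
    obtain ⟨a, b, h⟩ := pair_exists hH f
    have hcard := h.card_univ_eq hH
    have hP0 := (h.Zs_Pa hH).2.2.2.2.2.2.2.2
    simp only [Set.mem_insert_iff, Set.mem_singleton_iff]
    rcases (Rf a b).eq_empty_or_nonempty with hR | ⟨x, hx⟩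
    · rw [hR, Finset.card_empty] at hcard
      omega
    have hPc := h.card_Pc hH hx
    obtain ⟨hRk, hkd⟩ := h.card_Rf hH hx
    set k := (Pair.WOrb H f a b x).ncard
    have hkodd : k % 2 = 1 := Nat.odd_iff.mp ((hH.odd f).of_dvd_nat hkd)
    by_cases h1 : Nat.card (pS H f) = 1
    · have := sharp_list hH h1
      omega
    by_cases hk1 : k = 1
    · exact absurd (h.one_orbit hH IH hx (by omega)) h1
    exfalso
    have key : ∀ p, p.Prime → p ∣ k → Fintype.card β % 2 = 1 ∧ p = 3 ∧
        ∀ (o : Fin 4 ↪ β) (P : Subgroup (Perm β)), Syl 3 P (pS H o) → (Fx P).card = 4 := by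
      intro p hp hpk
      have := Fact.mk hp
      obtain ⟨P, hP, u, -, -, -, -, -, hp2, hlt, hmod, hD⟩ := h.step hH IH hx (hpk.trans hkd)
      have hdvd : (p : ℤ) ∣ ((Fx P).card : ℤ) - Fintype.card β := Nat.modEq_iff_dvd.mp hmod
      have hk' : (p : ℤ) ∣ k := Int.natCast_dvd_natCast.mpr hpk
      rcases hD with e | ⟨e, -, he⟩ | ⟨e, he⟩
      · rcases Nat.mod_two_eq_zero_or_one (Fintype.card β) with he | he
        · have h2 : (p : ℤ) ∣ 2 := by
            have := (dvd_add hdvd (hk'.mul_left 4)).neg_right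
            rw [e] at this
            obtain ⟨r, hr⟩ := this
            exact ⟨r, by omega⟩
          exact absurd ((Nat.prime_dvd_prime_iff_eq hp Nat.prime_two).mp
            (Int.natCast_dvd_natCast.mp h2)) hp2
        · have h3 : (p : ℤ) ∣ 3 := by
            have := (dvd_add hdvd (hk'.mul_left 4)).neg_right
            rw [e] at this
            obtain ⟨r, hr⟩ := this
            exact ⟨r, by omega⟩
          obtain rfl := (Nat.prime_dvd_prime_iff_eq hp Nat.prime_three).mp
            (Int.natCast_dvd_natCast.mp h3)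
          exact ⟨he, rfl, fun o P' hP' => (Fx_card_eq hH hP hP').trans e⟩
      · have h2 : (p : ℤ) ∣ 2 := by
          have := (dvd_add hdvd (hk'.mul_left 4)).neg_right
          rw [e] at this
          obtain ⟨r, hr⟩ := this
          exact ⟨r, by omega⟩
        exact absurd ((Nat.prime_dvd_prime_iff_eq hp Nat.prime_two).mp
          (Int.natCast_dvd_natCast.mp h2)) hp2
      · have h4 : (p : ℤ) ∣ 4 := by
          have := dvd_add hdvd (hk'.mul_left 4)
          rw [e] at this
          obtain ⟨r, hr⟩ := this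
          exact ⟨r, by omega⟩
        have h4' : p ∣ 2 * 2 := Int.natCast_dvd_natCast.mp h4
        rcases hp.dvd_mul.mp h4' with h2 | h2 <;>
          exact absurd ((Nat.prime_dvd_prime_iff_eq hp Nat.prime_two).mp h2) hp2
    obtain ⟨q, hq, hqk⟩ := Nat.exists_prime_and_dvd hk1
    obtain ⟨hodd, -, hfour⟩ := key q hq hqk
    have hk3 : k = 3 ^ k.primeFactorsList.length :=
      Nat.eq_prime_pow_of_unique_prime_dvd (by omega) fun {d} hd hdk => (key d hd hdk).2.1
    refine h.three_power_false hH hodd hx (m := k.primeFactorsList.length) ?_ hk3 hfour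
    by_contra hm
    rw [show k.primeFactorsList.length = 0 by omega, pow_zero] at hk3
    exact hk1 hk3

/-- **M. Hall**: the degree. -/
theorem degree (hG : Hyp G) (hne : Nonempty (Fin 4 ↪ α)) :
    Fintype.card α ∈ ({4, 5, 6, 7, 11} : Set ℕ) :=
  degree_aux _ α G rfl hG hne

theorem stab_eleven (hG : Hyp G) (h11 : Fintype.card α = 11) (f : Fin 4 ↪ α) :
    Nat.card (pS G f) = 1 := by
  obtain ⟨a, b, h⟩ := pair_exists hG f
  have hcard := h.card_univ_eq hG
  have hP0 := (h.Zs_Pa hG).2.2.2.2.2.2.2.2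
  obtain ⟨x, hx⟩ : (Rf a b).Nonempty := Finset.card_pos.mp (by omega)
  have hPc := h.card_Pc hG hx
  refine h.one_orbit hG (fun o p P hp hP _ => ?_) hx (by omega)
  have := Fact.mk hp
  obtain ⟨G', hG', hne'⟩ := exists_induced hG hP
  have := degree hG' hne'
  rwa [Fintype.card_coe] at this

/-- **M. Hall's theorem.** -/
theorem classify (hG : Hyp G) (f : Fin 4 ↪ α) :
    ((Fintype.card α = 4 ∨ Fintype.card α = 5) ∧ G = ⊤) ∨
      ((Fintype.card α = 6 ∨ Fintype.card α = 7) ∧ G = alternatingGroup α) ∨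
      (Fintype.card α = 11 ∧ Nat.card G = 7920) := by
  have hc := card_group hG f
  have hdvd : Nat.card G ∣ (Fintype.card α).factorial := by
    rw [← Fintype.card_perm, ← Nat.card_eq_fintype_card]
    exact Subgroup.card_subgroup_dvd_card G
  have hle := Nat.le_of_dvd (Nat.factorial_pos _) hdvd
  have hpos : 0 < Nat.card (pS G f) := Nat.card_pos
  have hodd := Nat.odd_iff.mp (hG.odd f)
  have htop : ∀ {N : ℕ}, N = (Fintype.card α).factorial → Nat.card G = N → G = ⊤ := fun hN hGN =>
    Subgroup.eq_top_of_card_eq G (by rw [hGN, hN, Nat.card_perm, Nat.card_eq_fintype_card])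
  have halt : ∀ {N : ℕ}, 2 * N = (Fintype.card α).factorial → Nat.card G = N →
      G = alternatingGroup α := fun {N} hN hGN => by
    refine Equiv.Perm.eq_alternatingGroup_of_index_eq_two ?_
    have hm := G.index_mul_card
    rw [hGN, Nat.card_perm, Nat.card_eq_fintype_card, ← hN] at hm
    have hN0 : N ≠ 0 := by rw [← hGN]; exact Nat.card_pos.ne'
    exact Nat.eq_of_mul_eq_mul_right (Nat.pos_of_ne_zero hN0) hm
  have := degree hG ⟨f⟩
  simp only [Set.mem_insert_iff, Set.mem_singleton_iff] at this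
  rcases this with e | e | e | e | e <;> rw [e] at hc hdvd hle ⊢ <;>
    norm_num [Nat.descFactorial, Nat.factorial] at hc hdvd hle
  · exact Or.inl ⟨Or.inl rfl, htop (by rw [e]; rfl) (show Nat.card G = 24 by omega)⟩
  · exact Or.inl ⟨Or.inr rfl, htop (by rw [e]; rfl) (show Nat.card G = 120 by omega)⟩
  · exact Or.inr (Or.inl ⟨Or.inl rfl, halt (by rw [e]; rfl) (show Nat.card G = 360 by omega)⟩)
  · refine Or.inr (Or.inl ⟨Or.inr rfl, halt (by rw [e]; rfl) (show Nat.card G = 2520 from ?_)⟩)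
    have h1 : Nat.card (pS G f) ≠ 1 := fun h1 => by
      have := sharp_list hG h1
      omega
    rw [hc] at hdvd ⊢
    have h6 : Nat.card (pS G f) ∣ 6 := Nat.dvd_of_mul_dvd_mul_left (by norm_num : 0 < 840) hdvd
    have := Nat.le_of_dvd (by norm_num) h6
    interval_cases hcp : Nat.card (pS G f) <;> omega
  · refine Or.inr (Or.inr ⟨rfl, ?_⟩)
    rw [hc, stab_eleven hG e f]

end Cfsg.Agent.OddFour
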